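import Cfsg.Agent.EqLemmas

/-!
# Matrices in characteristic two: blocks, diagonals, counting

* `bm` : 3 × 3 block matrices, `bm_mul`, `bm_transpose`, `bm_inj`, `exists_bm`
* `dvec S` : the square roots of the diagonal; `diag_conj` : `(Xᵀ S X)_ii = ((Xᵀ dvec S)_i)²` for symmetric `S`
* `quad_eq_iff` : two matrices give the same quadratic function iff same symmetrisation and diagonal
* `exists_half` : an alternating matrix is `M + Mᵀ`
* `card_symMat` : number of symmetric matrices
* `symPhi`, `card_fiber_zero`, `card_fiber` : the map `Y ↦ ((Ye)_i² + Y_ii)_i` on symmetric matrices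
-/

set_option autoImplicit false
set_option linter.unusedSectionVars false

namespace Cfsg.Agent.InvCentralizer

open Matrix

section Blocks

variable {R : Type*} [Semiring R]
variable {r₁ r₂ r₃ c₁ c₂ c₃ d₁ d₂ d₃ : Type*}

/-- A matrix with nine blocks. -/
def bm (a11 : Matrix r₁ c₁ R) (a12 : Matrix r₁ c₂ R) (a13 : Matrix r₁ c₃ R)
    (a21 : Matrix r₂ c₁ R) (a22 : Matrix r₂ c₂ R) (a23 : Matrix r₂ c₃ R)
    (a31 : Matrix r₃ c₁ R) (a32 : Matrix r₃ c₂ R) (a33 : Matrix r₃ c₃ R) :
    Matrix (r₁ ⊕ r₂ ⊕ r₃) (c₁ ⊕ c₂ ⊕ c₃) R :=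
  Matrix.of fun i j =>
    match i, j with
    | .inl i, .inl j => a11 i j
    | .inl i, .inr (.inl j) => a12 i j
    | .inl i, .inr (.inr j) => a13 i j
    | .inr (.inl i), .inl j => a21 i j
    | .inr (.inl i), .inr (.inl j) => a22 i j
    | .inr (.inl i), .inr (.inr j) => a23 i j
    | .inr (.inr i), .inl j => a31 i j
    | .inr (.inr i), .inr (.inl j) => a32 i j
    | .inr (.inr i), .inr (.inr j) => a33 i j

variable {a11 : Matrix r₁ c₁ R} {a12 : Matrix r₁ c₂ R} {a13 : Matrix r₁ c₃ R}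
  {a21 : Matrix r₂ c₁ R} {a22 : Matrix r₂ c₂ R} {a23 : Matrix r₂ c₃ R}
  {a31 : Matrix r₃ c₁ R} {a32 : Matrix r₃ c₂ R} {a33 : Matrix r₃ c₃ R}

theorem bm_mul [Fintype c₁] [Fintype c₂] [Fintype c₃]
    (b11 : Matrix c₁ d₁ R) (b12 : Matrix c₁ d₂ R) (b13 : Matrix c₁ d₃ R)
    (b21 : Matrix c₂ d₁ R) (b22 : Matrix c₂ d₂ R) (b23 : Matrix c₂ d₃ R)
    (b31 : Matrix c₃ d₁ R) (b32 : Matrix c₃ d₂ R) (b33 : Matrix c₃ d₃ R) :
    bm a11 a12 a13 a21 a22 a23 a31 a32 a33 * bm b11 b12 b13 b21 b22 b23 b31 b32 b33 =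
      bm (a11 * b11 + a12 * b21 + a13 * b31) (a11 * b12 + a12 * b22 + a13 * b32)
        (a11 * b13 + a12 * b23 + a13 * b33)
        (a21 * b11 + a22 * b21 + a23 * b31) (a21 * b12 + a22 * b22 + a23 * b32)
        (a21 * b13 + a22 * b23 + a23 * b33)
        (a31 * b11 + a32 * b21 + a33 * b31) (a31 * b12 + a32 * b22 + a33 * b32)
        (a31 * b13 + a32 * b23 + a33 * b33) := by
  ext i j
  rcases i with i | i | i <;> rcases j with j | j | j <;>
    simp [bm, Matrix.mul_apply, Fintype.sum_sum_type, add_assoc]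

theorem bm_transpose :
    (bm a11 a12 a13 a21 a22 a23 a31 a32 a33)ᵀ =
      bm a11ᵀ a21ᵀ a31ᵀ a12ᵀ a22ᵀ a32ᵀ a13ᵀ a23ᵀ a33ᵀ := by
  ext i j
  rcases i with i | i | i <;> rcases j with j | j | j <;> rfl

theorem bm_add (b11 : Matrix r₁ c₁ R) (b12 : Matrix r₁ c₂ R) (b13 : Matrix r₁ c₃ R)
    (b21 : Matrix r₂ c₁ R) (b22 : Matrix r₂ c₂ R) (b23 : Matrix r₂ c₃ R)
    (b31 : Matrix r₃ c₁ R) (b32 : Matrix r₃ c₂ R) (b33 : Matrix r₃ c₃ R) :
    bm a11 a12 a13 a21 a22 a23 a31 a32 a33 + bm b11 b12 b13 b21 b22 b23 b31 b32 b33 =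
      bm (a11 + b11) (a12 + b12) (a13 + b13) (a21 + b21) (a22 + b22) (a23 + b23)
        (a31 + b31) (a32 + b32) (a33 + b33) := by
  ext i j
  rcases i with i | i | i <;> rcases j with j | j | j <;> rfl

theorem bm_inj {b11 : Matrix r₁ c₁ R} {b12 : Matrix r₁ c₂ R} {b13 : Matrix r₁ c₃ R}
    {b21 : Matrix r₂ c₁ R} {b22 : Matrix r₂ c₂ R} {b23 : Matrix r₂ c₃ R}
    {b31 : Matrix r₃ c₁ R} {b32 : Matrix r₃ c₂ R} {b33 : Matrix r₃ c₃ R} :
    bm a11 a12 a13 a21 a22 a23 a31 a32 a33 = bm b11 b12 b13 b21 b22 b23 b31 b32 b33 ↔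
      (a11 = b11 ∧ a12 = b12 ∧ a13 = b13) ∧ (a21 = b21 ∧ a22 = b22 ∧ a23 = b23) ∧
        (a31 = b31 ∧ a32 = b32 ∧ a33 = b33) := by
  refine ⟨fun h => ?_, fun h => ?_⟩
  · refine ⟨⟨?_, ?_, ?_⟩, ⟨?_, ?_, ?_⟩, ?_, ?_, ?_⟩ <;> ext i j
    · exact congrFun (congrFun h (.inl i)) (.inl j)
    · exact congrFun (congrFun h (.inl i)) (.inr (.inl j))
    · exact congrFun (congrFun h (.inl i)) (.inr (.inr j))
    · exact congrFun (congrFun h (.inr (.inl i))) (.inl j)
    · exact congrFun (congrFun h (.inr (.inl i))) (.inr (.inl j))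
    · exact congrFun (congrFun h (.inr (.inl i))) (.inr (.inr j))
    · exact congrFun (congrFun h (.inr (.inr i))) (.inl j)
    · exact congrFun (congrFun h (.inr (.inr i))) (.inr (.inl j))
    · exact congrFun (congrFun h (.inr (.inr i))) (.inr (.inr j))
  · obtain ⟨⟨rfl, rfl, rfl⟩, ⟨rfl, rfl, rfl⟩, rfl, rfl, rfl⟩ := h
    rfl

theorem exists_bm (g : Matrix (r₁ ⊕ r₂ ⊕ r₃) (c₁ ⊕ c₂ ⊕ c₃) R) :
    ∃ (a11 : Matrix r₁ c₁ R) (a12 : Matrix r₁ c₂ R) (a13 : Matrix r₁ c₃ R)
      (a21 : Matrix r₂ c₁ R) (a22 : Matrix r₂ c₂ R) (a23 : Matrix r₂ c₃ R)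
      (a31 : Matrix r₃ c₁ R) (a32 : Matrix r₃ c₂ R) (a33 : Matrix r₃ c₃ R),
      g = bm a11 a12 a13 a21 a22 a23 a31 a32 a33 := by
  refine ⟨fun i j => g (.inl i) (.inl j), fun i j => g (.inl i) (.inr (.inl j)),
    fun i j => g (.inl i) (.inr (.inr j)), fun i j => g (.inr (.inl i)) (.inl j),
    fun i j => g (.inr (.inl i)) (.inr (.inl j)), fun i j => g (.inr (.inl i)) (.inr (.inr j)),
    fun i j => g (.inr (.inr i)) (.inl j), fun i j => g (.inr (.inr i)) (.inr (.inl j)),
    fun i j => g (.inr (.inr i)) (.inr (.inr j)), ?_⟩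
  ext i j
  rcases i with i | i | i <;> rcases j with j | j | j <;> rfl

theorem bm_one [DecidableEq r₁] [DecidableEq r₂] [DecidableEq r₃] :
    bm (1 : Matrix r₁ r₁ R) 0 0 0 (1 : Matrix r₂ r₂ R) 0 0 0 (1 : Matrix r₃ r₃ R) = 1 := by
  ext i j
  rcases i with i | i | i <;> rcases j with j | j | j <;> simp [bm, Matrix.one_apply]

end Blocks

section CharTwo

variable {F : Type*} [Field F] [CharP F 2] {n p : Type*} [Fintype n]

theorem add_eq_zero_iff {a b : Matrix n p F} : a + b = 0 ↔ a = b := by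
  constructor
  · intro h
    ext i j
    exact CharTwo.add_eq_zero.1 (congrFun (congrFun h i) j)
  · rintro rfl
    ext i j
    exact CharTwo.add_self_eq_zero _

theorem add_self (a : Matrix n p F) : a + a = 0 := add_eq_zero_iff.2 rfl

theorem add_eq_iff {a b c : Matrix n p F} : a + b = c ↔ a = c + b := by
  constructor <;> rintro rfl <;> rw [add_assoc, add_self, add_zero]

/-- In a quadratic function the off-diagonal part of a symmetric matrix cancels. -/
theorem dotProduct_symm {S : Matrix n n F} (hS : Sᵀ = S) (v : n → F) :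
    v ⬝ᵥ (S *ᵥ v) = ∑ i, S i i * v i ^ 2 := by
  classical
  simp only [dotProduct, Matrix.mulVec, Finset.mul_sum]
  rw [← Finset.sum_product', ← Finset.sum_filter_add_sum_filter_not (Finset.univ ×ˢ Finset.univ)
    (fun p : n × n => p.1 = p.2)]
  have hoff : ∑ p ∈ (Finset.univ ×ˢ Finset.univ).filter (fun p : n × n => ¬ p.1 = p.2),
      v p.1 * (S p.1 p.2 * v p.2) = 0 := by
    refine Finset.sum_involution (fun p _ => p.swap) ?_ ?_ ?_ (fun p _ => Prod.swap_swap p)
    · intro p _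
      have h : S p.2 p.1 = S p.1 p.2 := congrFun (congrFun hS p.1) p.2
      simp only [Prod.fst_swap, Prod.snd_swap, h]
      rw [show v p.2 * (S p.1 p.2 * v p.1) = v p.1 * (S p.1 p.2 * v p.2) by ring,
        CharTwo.add_self_eq_zero]
    · intro p hp _ h
      exact (Finset.mem_filter.1 hp).2 (congrArg Prod.fst h).symm
    · intro p hp
      simp only [Finset.mem_filter, Finset.mem_product, Finset.mem_univ, true_and, Prod.fst_swap,
        Prod.snd_swap] at hp ⊢
      exact fun h => hp h.symm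
  rw [hoff, add_zero]
  refine Finset.sum_bij' (fun p _ => p.1) (fun i _ => (i, i)) ?_ ?_ ?_ ?_ ?_
  · simp
  · simp
  · rintro ⟨x, y⟩ hp; simp at hp; subst hp; rfl
  · simp
  · rintro ⟨x, y⟩ hp; simp at hp; subst hp; ring

/-- Two matrices give the same quadratic function iff same symmetrisation and diagonal. -/
theorem quad_eq_iff [DecidableEq n] {X Y : Matrix n n F} :
    (∀ v, v ⬝ᵥ (X *ᵥ v) = v ⬝ᵥ (Y *ᵥ v)) ↔ X + Xᵀ = Y + Yᵀ ∧ ∀ i, X i i = Y i i := by
  have hpol : ∀ (M : Matrix n n F) i j, (M + Mᵀ) i j =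
      ((Pi.single i 1 + Pi.single j 1 : n → F) ⬝ᵥ (M *ᵥ (Pi.single i 1 + Pi.single j 1))) -
        (Pi.single i 1 : n → F) ⬝ᵥ (M *ᵥ Pi.single i 1) -
        (Pi.single j 1 : n → F) ⬝ᵥ (M *ᵥ Pi.single j 1) := fun M i j => by
    simp [Matrix.mulVec_add]
    ring
  constructor
  · intro h
    refine ⟨Matrix.ext fun i j => ?_, fun i => ?_⟩
    · rw [hpol, hpol, h, h, h]
    · simpa using h (Pi.single i 1)
  · rintro ⟨h1, h2⟩ v
    have hS : (X + Y)ᵀ = X + Y := by
      rw [← add_eq_zero_iff, Matrix.transpose_add,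
        show Xᵀ + Yᵀ + (X + Y) = (X + Xᵀ) + (Y + Yᵀ) by abel, h1, add_self]
    have h := dotProduct_symm hS v
    rw [Matrix.add_mulVec, dotProduct_add,
      Finset.sum_eq_zero fun i _ => by rw [Matrix.add_apply, h2, CharTwo.add_self_eq_zero, zero_mul],
      CharTwo.add_eq_zero] at h
    exact h

theorem diag_congr [DecidableEq n] [Fintype p] [DecidableEq p] {X Y : Matrix n n F}
    (h : X + Xᵀ = Y + Yᵀ) (hd : ∀ i, X i i = Y i i) (g : Matrix n p F) (j : p) :
    (gᵀ * X * g) j j = (gᵀ * Y * g) j j := by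
  have h1 : ∀ M : Matrix n n F, (gᵀ * M * g) j j = g.col j ⬝ᵥ (M *ᵥ g.col j) := fun M => by
    rw [Matrix.mul_assoc]
    simp [Matrix.mul_apply, dotProduct, Matrix.mulVec, Matrix.col_apply]
  rw [h1, h1]
  exact quad_eq_iff.2 ⟨h, hd⟩ _

/-- An alternating matrix is a symmetrisation. -/
theorem exists_half {Z : Matrix n n F} (hZ : Zᵀ = Z) (hd : ∀ i, Z i i = 0) :
    ∃ M : Matrix n n F, M + Mᵀ = Z := by
  classical
  let σ := Fintype.equivFin n
  refine ⟨Matrix.of fun i j => if σ i < σ j then Z i j else 0, Matrix.ext fun i j => ?_⟩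
  simp only [Matrix.add_apply, Matrix.transpose_apply, Matrix.of_apply]
  rcases lt_trichotomy (σ i) (σ j) with h | h | h
  · rw [if_pos h, if_neg (not_lt.2 h.le), add_zero]
  · obtain rfl := σ.injective h
    simp [hd]
  · rw [if_neg (not_lt.2 h.le), if_pos h, zero_add]
    exact congrFun (congrFun hZ i) j

variable [Finite F]

/-- Square root. -/
noncomputable def rt (x : F) : F := (frobeniusEquiv F 2).symm x

theorem rt_sq (x : F) : rt x ^ 2 = x := frobeniusEquiv_symm_pow_p F 2 x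

theorem sq_inj {x y : F} (h : x ^ 2 = y ^ 2) : x = y := by
  rw [← CharTwo.add_eq_zero, ← CharTwo.add_sq] at h
  exact CharTwo.add_eq_zero.1 (pow_eq_zero_iff (two_ne_zero) |>.1 h)

/-- Square roots of the diagonal. -/
noncomputable def dvec (S : Matrix n n F) (i : n) : F := rt (S i i)

theorem quad_symm {S : Matrix n n F} (hS : Sᵀ = S) (v : n → F) :
    v ⬝ᵥ (S *ᵥ v) = (v ⬝ᵥ dvec S) ^ 2 := by
  rw [dotProduct_symm hS]
  simp only [dotProduct, CharTwo.sum_sq, mul_pow, dvec, rt_sq, mul_comm]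

theorem diag_conj {S : Matrix n n F} (hS : Sᵀ = S) (X : Matrix n p F) (i : p) :
    (Xᵀ * S * X) i i = ((Xᵀ *ᵥ dvec S) i) ^ 2 := by
  rw [Matrix.mul_assoc, show (Xᵀ *ᵥ dvec S) i = X.col i ⬝ᵥ dvec S from rfl, ← quad_symm hS]
  simp [Matrix.mul_apply, dotProduct, Matrix.mulVec, Matrix.col_apply]

end CharTwo

section SymCount

variable {F : Type*} [Field F] {n : Type*} [Fintype n]

/-- Symmetric matrices. -/
def symMat (n : Type*) (F : Type*) [Field F] : AddSubgroup (Matrix n n F) where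
  carrier := {Y | Yᵀ = Y}
  add_mem' {a b} ha hb := by
    show (a + b)ᵀ = a + b
    rw [Matrix.transpose_add, ha, hb]
  zero_mem' := Matrix.transpose_zero
  neg_mem' {a} ha := by
    show (-a)ᵀ = -a
    rw [Matrix.transpose_neg, ha]

theorem mem_symMat {Y : Matrix n n F} : Y ∈ symMat n F ↔ Yᵀ = Y := Iff.rfl

theorem card_symMat [Finite F] :
    Nat.card (symMat n F) = Nat.card F ^ (Fintype.card n + 1).choose 2 := by
  classical
  have e : (Sym2 n → F) ≃ symMat n F :=
    { toFun := fun f => ⟨Matrix.of fun i j => f s(i, j), by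
        ext i j
        simp [Sym2.eq_swap]⟩
      invFun := fun Y => Sym2.lift ⟨fun i j => (Y : Matrix n n F) i j, fun i j => by
        conv_lhs => rw [← Y.2]
        rfl⟩
      left_inv := fun f => by
        funext z
        induction z using Sym2.ind with
        | _ i j => rfl
      right_inv := fun Y => rfl }
  rw [← Nat.card_congr e, Nat.card_fun, Nat.card_eq_fintype_card (α := Sym2 n), Sym2.card]

variable [CharP F 2]

/-- `Y ↦ ((Ye)_i² + Y_ii)_i`. -/
def symPhi (e : n → F) : symMat n F →+ (n → F) where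
  toFun Y i := ((Y : Matrix n n F) *ᵥ e) i ^ 2 + (Y : Matrix n n F) i i
  map_zero' := by
    funext i
    simp
  map_add' Y Z := by
    funext i
    simp only [AddSubgroup.coe_add, Matrix.add_mulVec, Pi.add_apply, CharTwo.add_sq,
      Matrix.add_apply]
    ring

/-- The elements `w² + w`. -/
def asImage (F : Type*) [Field F] [CharP F 2] : AddSubgroup F where
  carrier := {x | ∃ w, w ^ 2 + w = x}
  add_mem' := by
    rintro a b ⟨v, rfl⟩ ⟨w, rfl⟩
    exact ⟨v + w, by rw [CharTwo.add_sq]; ring⟩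
  zero_mem' := ⟨0, by simp⟩
  neg_mem' := by
    rintro a ⟨v, rfl⟩
    exact ⟨v, (CharTwo.neg_eq _).symm⟩

theorem index_asImage [Finite F] : (asImage F).index = 2 := by
  classical
  let φ : F →+ F :=
    { toFun := fun w => w ^ 2 + w
      map_zero' := by simp
      map_add' := fun v w => by rw [CharTwo.add_sq]; ring }
  have hr : asImage F = φ.range := by ext x; rfl
  have hk : Nat.card φ.ker = 2 := by
    have hset : (φ.ker : Set F) = {0, 1} := by
      ext w
      simp only [SetLike.mem_coe, AddMonoidHom.mem_ker, Set.mem_insert_iff, Set.mem_singleton_iff]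
      show w ^ 2 + w = 0 ↔ _
      rw [show w ^ 2 + w = w * (w + 1) by ring, mul_eq_zero, CharTwo.add_eq_zero]
    rw [show Nat.card φ.ker = (φ.ker : Set F).ncard from Nat.card_coe_set_eq _, hset]
    exact Set.ncard_pair zero_ne_one
  have h1 : φ.range.index * Nat.card φ.range = Nat.card F := φ.range.index_mul_card
  have h2 : φ.ker.index * Nat.card φ.ker = Nat.card F := φ.ker.index_mul_card
  rw [AddSubgroup.index_ker, hk] at h2
  rw [← hr] at h1 h2
  have h3 : 0 < Nat.card (asImage F) := Nat.card_pos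
  exact Nat.eq_of_mul_eq_mul_right h3 (by rw [h1, ← h2, mul_comm])

/-- `L(z) = Σ e_i² z_i`. -/
def eSum (e : n → F) : (n → F) →+ F where
  toFun z := ∑ i, e i ^ 2 * z i
  map_zero' := by simp
  map_add' y z := by simp [mul_add, Finset.sum_add_distrib]

theorem eSum_apply (e z : n → F) : eSum e z = ∑ i, e i ^ 2 * z i := rfl

theorem eSum_surjective [DecidableEq n] {e : n → F} (he : e ≠ 0) :
    Function.Surjective (eSum e) := by
  obtain ⟨i, hi⟩ := Function.ne_iff.1 he
  exact fun x => ⟨Pi.single i (x / e i ^ 2), by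
    rw [eSum_apply, Finset.sum_eq_single i (fun j _ hj => by simp [hj]) (by simp)]
    simp only [Pi.zero_apply] at hi
    simp
    field_simp⟩

theorem range_symPhi [DecidableEq n] {e : n → F} (he : e ≠ 0) :
    (symPhi e).range = (asImage F).comap (eSum e) := by
  obtain ⟨o, ho⟩ := Function.ne_iff.1 he
  simp only [Pi.zero_apply] at ho
  ext z
  simp only [AddMonoidHom.mem_range, AddSubgroup.mem_comap]
  constructor
  · rintro ⟨Y, rfl⟩
    refine ⟨∑ i, e i * ((Y : Matrix n n F) *ᵥ e) i, ?_⟩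
    rw [eSum_apply, CharTwo.sum_sq,
      show ∑ i, e i * ((Y : Matrix n n F) *ᵥ e) i = e ⬝ᵥ ((Y : Matrix n n F) *ᵥ e) from rfl,
      dotProduct_symm Y.2, ← Finset.sum_add_distrib]
    refine Finset.sum_congr rfl fun i _ => ?_
    show _ = e i ^ 2 * (((Y : Matrix n n F) *ᵥ e) i ^ 2 + (Y : Matrix n n F) i i)
    ring
  · rintro ⟨w, hw⟩
    set v : n → F := Pi.single o (w / e o) with hv
    set d : n → F := fun i => z i + v i ^ 2 with hd
    set Y : Matrix n n F := Matrix.of fun i j =>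
      if i = j then d i else if j = o then d i * e i / e o
      else if i = o then d j * e j / e o else 0 with hY
    have hYs : Yᵀ = Y := by
      ext i j
      simp only [hY, Matrix.transpose_apply, Matrix.of_apply]
      by_cases hij : i = j
      · subst hij; rfl
      · rw [if_neg hij, if_neg (Ne.symm hij)]
        by_cases hjo : j = o
        · subst hjo
          rw [if_neg hij, if_pos rfl, if_pos rfl]
        · by_cases hio : i = o <;> simp [hio, hjo]
    have hdd : ∀ i, Y i i = d i := fun i => by simp [hY]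
    have hsum : ∑ i, d i * e i ^ 2 = w := by
      have h1 : ∑ i, v i ^ 2 * e i ^ 2 = w ^ 2 := by
        rw [Finset.sum_eq_single o (fun j _ hj => by simp [hv, hj]) (by simp), hv]
        simp only [Pi.single_eq_same]
        field_simp
      have h2 : ∑ i, d i * e i ^ 2 = eSum e z + ∑ i, v i ^ 2 * e i ^ 2 := by
        rw [eSum_apply, ← Finset.sum_add_distrib]
        exact Finset.sum_congr rfl fun i _ => by simp only [hd]; ring
      rw [h2, h1, ← hw, add_comm (w ^ 2) w, add_assoc, CharTwo.add_self_eq_zero, add_zero]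
    have hYe : Y *ᵥ e = v := by
      funext i
      by_cases hio : i = o
      · subst hio
        rw [hv, Pi.single_eq_same, eq_div_iff ho, ← hsum, mulVec, dotProduct, Finset.sum_mul]
        refine Finset.sum_congr rfl fun j _ => ?_
        simp only [hY, Matrix.of_apply]
        by_cases hij : i = j
        · subst hij
          rw [if_pos rfl]; ring
        · simp only [hij, Ne.symm hij, if_false, if_true]
          field_simp
      · rw [hv, Pi.single_eq_of_ne hio, mulVec, dotProduct, Fintype.sum_eq_add i o hio]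
        · simp only [hY, Matrix.of_apply, if_pos, if_neg hio]
          field_simp
          rw [CharTwo.add_self_eq_zero, mul_zero]
        · rintro j ⟨hji, hjo⟩
          simp [hY, Ne.symm hji, hjo, hio]
    refine ⟨⟨Y, hYs⟩, funext fun i => ?_⟩
    show (Y *ᵥ e) i ^ 2 + Y i i = z i
    rw [hYe, hdd, hd, add_left_comm, CharTwo.add_self_eq_zero, add_zero]

theorem card_fiber_eq (φ : symMat n F →+ (n → F)) {z : n → F} (hz : z ∈ φ.range) :
    Nat.card {Y : symMat n F // φ Y = z} = Nat.card φ.ker := by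
  obtain ⟨Y₀, rfl⟩ := hz
  exact Nat.card_congr
    { toFun := fun Y => ⟨Y.1 - Y₀, by rw [AddMonoidHom.mem_ker, map_sub, Y.2, sub_self]⟩
      invFun := fun Y => ⟨Y.1 + Y₀, by rw [map_add, AddMonoidHom.mem_ker.1 Y.2, zero_add]⟩
      left_inv := fun Y => Subtype.ext (sub_add_cancel _ _)
      right_inv := fun Y => Subtype.ext (add_sub_cancel_right _ _) }

/-- Fibres of `symPhi 0`. -/
theorem card_fiber_zero [DecidableEq n] [Finite F] (z : n → F) :
    Nat.card {Y : symMat n F // symPhi (0 : n → F) Y = z} * Nat.card F ^ Fintype.card n =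
      Nat.card F ^ (Fintype.card n + 1).choose 2 := by
  have hs : ∀ y : n → F, y ∈ (symPhi (0 : n → F)).range := fun y =>
    ⟨⟨Matrix.diagonal y, Matrix.diagonal_transpose y⟩, funext fun i => by
      show ((Matrix.diagonal y) *ᵥ (0 : n → F)) i ^ 2 + Matrix.diagonal y i i = y i
      simp⟩
  rw [card_fiber_eq _ (hs z), ← card_symMat, ← AddSubgroup.index_mul_card (symPhi (0 : n → F)).ker,
    AddSubgroup.index_ker, mul_comm]
  congr 1
  rw [show (symPhi (0 : n → F)).range = ⊤ from eq_top_iff.2 fun y _ => hs y,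
    AddSubgroup.card_top, Nat.card_fun, Nat.card_eq_fintype_card (α := n)]

/-- Fibres of `symPhi e` for `e ≠ 0`. -/
theorem card_fiber [DecidableEq n] [Finite F] {e : n → F} (he : e ≠ 0) {z : n → F}
    (hz : eSum e z ∈ asImage F) :
    Nat.card {Y : symMat n F // symPhi e Y = z} * Nat.card F ^ Fintype.card n =
      2 * Nat.card F ^ (Fintype.card n + 1).choose 2 := by
  have hr := range_symPhi he
  rw [card_fiber_eq _ (by rw [hr]; exact hz), ← card_symMat,
    ← AddSubgroup.index_mul_card (symPhi e).ker, AddSubgroup.index_ker]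
  have hi : (symPhi e).range.index = 2 := by
    rw [hr, AddSubgroup.index_comap_of_surjective _ (eSum_surjective he), index_asImage]
  have h2 := (symPhi e).range.index_mul_card
  rw [hi, Nat.card_fun, Nat.card_eq_fintype_card (α := n)] at h2
  rw [← h2]
  ring

end SymCount

end Cfsg.Agent.InvCentralizer
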