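import Cfsg.Agent.Lib.InvCentralizer.Model
import Cfsg.Agent.Lib.GLOrder.Symplectic
import Cfsg.Agent.Lib.AltRank.Basic

/-!
# Isometry groups of symmetric bilinear forms in characteristic two

* `isoSetCongr` : change of basis
* `spOrder q j` : the order of `Sp_2j(q)`
* `card_iso_std`, `card_iso_alt` : alternating forms
* `card_iso_nonalt` : non-alternating forms: `Sp_(s-1)`, resp. `q^(s-1) Sp_(s-2)`
-/

set_option autoImplicit false
set_option linter.unusedSectionVars false

namespace Cfsg.Agent.InvCentralizer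

open Matrix Module

universe u

variable {F : Type u} [Field F] [CharP F 2] [Finite F]

/-- The order of `Sp_2j(q)`. -/
def spOrder (q j : ℕ) : ℕ := q ^ (j ^ 2) * ∏ i : Fin j, (q ^ (2 * ((i : ℕ) + 1)) - 1)

/-- The standard alternating matrix. -/
theorem J_std_symm {l : Type*} [Fintype l] [DecidableEq l] :
    (Matrix.J l F)ᵀ = Matrix.J l F ∧ -Matrix.J l F = Matrix.J l F ∧
      (∀ i, Matrix.J l F i i = 0) ∧ Matrix.J l F * Matrix.J l F = 1 := by
  have hn : ∀ M : Matrix (l ⊕ l) (l ⊕ l) F, -M = M := fun M => by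
    ext i j
    exact CharTwo.neg_eq _
  refine ⟨by rw [Matrix.J_transpose, hn], hn _, ?_, by rw [Matrix.J_squared, hn]⟩
  rintro (i | i) <;> simp [Matrix.J]

theorem card_iso_std (j : ℕ) :
    Nat.card (IsoSet (Matrix.J (Fin j) F)) = spOrder (Nat.card F) j := by
  rw [spOrder, Fin.prod_univ_eq_prod_range (fun i => Nat.card F ^ (2 * (i + 1)) - 1),
    ← GLOrder.card_Sp]
  exact Nat.card_congr (Equiv.subtypeEquivRight fun X => SymplecticGroup.mem_iff'.symm)

/-- Change of basis. -/
def isoSetCongr {n n' : Type*} [Fintype n] [DecidableEq n] [Fintype n'] [DecidableEq n']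
    (S : Matrix n n F) (X : Matrix n n' F) (Y : Matrix n' n F) (h1 : X * Y = 1) (h2 : Y * X = 1) :
    IsoSet S ≃ IsoSet (Xᵀ * S * X) where
  toFun A := ⟨Y * A.1 * X, by
    calc (Y * A.1 * X)ᵀ * (Xᵀ * S * X) * (Y * A.1 * X)
        = Xᵀ * (A.1ᵀ * ((X * Y)ᵀ * S * (X * Y)) * A.1) * X := by
          simp only [Matrix.transpose_mul, Matrix.mul_assoc]
      _ = Xᵀ * S * X := by rw [h1, Matrix.transpose_one, Matrix.one_mul, Matrix.mul_one, A.2]⟩
  invFun A := ⟨X * A.1 * Y, by
    calc (X * A.1 * Y)ᵀ * S * (X * A.1 * Y)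
        = Yᵀ * (A.1ᵀ * (Xᵀ * S * X) * A.1) * Y := by
          simp only [Matrix.transpose_mul, Matrix.mul_assoc]
      _ = (X * Y)ᵀ * S * (X * Y) := by rw [A.2]; simp only [Matrix.transpose_mul, Matrix.mul_assoc]
      _ = S := by rw [h1, Matrix.transpose_one, Matrix.one_mul, Matrix.mul_one]⟩
  left_inv A := Subtype.ext (by
    calc X * (Y * A.1 * X) * Y = (X * Y) * A.1 * (X * Y) := by simp only [Matrix.mul_assoc]
      _ = A.1 := by rw [h1, Matrix.one_mul, Matrix.mul_one])
  right_inv A := Subtype.ext (by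
    calc Y * (X * A.1 * Y) * X = (Y * X) * A.1 * (Y * X) := by simp only [Matrix.mul_assoc]
      _ = A.1 := by rw [h2, Matrix.one_mul, Matrix.mul_one])

/-- An injective matrix has a left inverse. -/
theorem exists_left_inverse {n n' : Type*} [Fintype n] [DecidableEq n] [Fintype n'] [DecidableEq n']
    (X : Matrix n n' F) (hX : Function.Injective (X *ᵥ ·)) : ∃ Y : Matrix n' n F, Y * X = 1 := by
  obtain ⟨g, hg⟩ := LinearMap.exists_leftInverse_of_injective (Matrix.toLin' X)
    (LinearMap.ker_eq_bot.2 hX)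
  refine ⟨LinearMap.toMatrix' g, ?_⟩
  have h := congrArg LinearMap.toMatrix' hg
  rwa [LinearMap.toMatrix'_comp, LinearMap.toMatrix'_toLin', LinearMap.toMatrix'_id] at h

/-- The form of a matrix. -/
theorem toLinearMap₂'_cols {n n' : Type*} [Fintype n] [DecidableEq n] (S : Matrix n n F)
    (X : Matrix n n' F) (i j : n') :
    Matrix.toLinearMap₂' F S (X.col i) (X.col j) = (Xᵀ * S * X) i j := by
  rw [Matrix.toLinearMap₂'_apply', Matrix.mul_assoc]
  simp [Matrix.mul_apply, dotProduct, Matrix.mulVec, Matrix.col_apply]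

/-- Alternating non-degenerate forms. -/
theorem card_iso_alt {n : Type*} [Fintype n] [DecidableEq n] {S : Matrix n n F} (hS : Sᵀ = S)
    (hSd : IsUnit S.det) (hSz : ∀ i, S i i = 0) :
    ∃ j, Fintype.card n = 2 * j ∧ Nat.card (IsoSet S) = spOrder (Nat.card F) j := by
  have heven : Even (Fintype.card n) := by
    by_contra h
    exact hSd.ne_zero (AltRank.det_eq_zero_of_odd S hS hSz (Nat.not_even_iff_odd.1 h))
  obtain ⟨j, hj⟩ := heven
  rw [← two_mul] at hj
  refine ⟨j, hj, ?_⟩
  set B : LinearMap.BilinForm F (n → F) := Matrix.toLinearMap₂' F S with hB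
  have halt : ∀ x, B x x = 0 := fun x => by
    rw [hB, Matrix.toLinearMap₂'_apply', dotProduct_symm hS]
    simp [hSz]
  have hnd : ∀ x, (∀ y, B x y = 0) → x = 0 := fun x hx => by
    have h1 : Sᵀ *ᵥ x = 0 := by
      funext k
      have h2 := hx (Pi.single k 1)
      rw [hB, Matrix.toLinearMap₂'_apply', Matrix.dotProduct_mulVec, ← Matrix.mulVec_transpose] at h2
      simpa using h2
    rw [hS] at h1
    exact Matrix.mulVec_injective_of_isUnit ((Matrix.isUnit_iff_isUnit_det _).2 hSd)
      (h1.trans (Matrix.mulVec_zero S).symm)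
  obtain ⟨t⟩ := GLOrder.nonempty_frame j B halt hnd
    (by rw [Module.finrank_fintype_fun_eq_card, hj])
  let X : Matrix n (Fin j ⊕ Fin j) F := Matrix.of fun k c => Sum.elim t.1.1 t.1.2 c k
  have hX : Xᵀ * S * X = Matrix.J (Fin j) F := by
    ext a b
    rw [← toLinearMap₂'_cols, ← hB]
    obtain ⟨he, hf, hef⟩ := t.2
    rcases a with a | a <;> rcases b with b | b
    · show B (t.1.1 a) (t.1.1 b) = _
      simp [he, Matrix.J]
    · show B (t.1.1 a) (t.1.2 b) = _
      simp [hef, Matrix.J, Matrix.one_apply, CharTwo.neg_eq]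
    · show B (t.1.2 a) (t.1.1 b) = _
      rw [GLOrder.alt_swap halt]
      simp [hef, Matrix.J, Matrix.one_apply, CharTwo.neg_eq, eq_comm]
    · show B (t.1.2 a) (t.1.2 b) = _
      simp [hf, Matrix.J]
  have hcard : Fintype.card (Fin j ⊕ Fin j) = Fintype.card n := by simp [hj, two_mul]
  have hYX : (Matrix.J (Fin j) F * (Xᵀ * S)) * X = 1 := by
    rw [Matrix.mul_assoc, hX, J_std_symm.2.2.2]
  rw [Nat.card_congr (isoSetCongr S X _ ((Matrix.mul_eq_one_comm_of_card_eq _ _ F hcard).1 hYX) hYX), hX,
    card_iso_std]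

/-- `[1] ⊕ J`. -/
theorem card_iso_oneBlock {o n : Type*} [Fintype o] [DecidableEq o] [Unique o] [Fintype n]
    [DecidableEq n] {S : Matrix n n F} (hS : Sᵀ = S) (hSd : IsUnit S.det) (hSz : ∀ i, S i i = 0) :
    Nat.card (IsoSet (fromBlocks (1 : Matrix o o F) 0 0 S)) = Nat.card (IsoSet S) := by
  refine Nat.card_congr (Equiv.symm (Equiv.ofBijective
    (fun D : IsoSet S => (⟨fromBlocks 1 0 0 D.1, ?_⟩ : IsoSet (fromBlocks (1 : Matrix o o F) 0 0 S)))
    ⟨?_, ?_⟩))
  · rw [fromBlocks_transpose, fromBlocks_multiply, fromBlocks_multiply]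
    simp [D.2]
  · intro D D' h
    exact Subtype.ext (fromBlocks_inj.1 (congrArg Subtype.val h)).2.2.2
  · rintro ⟨A, hA⟩
    set a := A.toBlocks₁₁; set b := A.toBlocks₁₂; set c := A.toBlocks₂₁; set D := A.toBlocks₂₂
    have hAe : A = fromBlocks a b c D := (fromBlocks_toBlocks A).symm
    have hdiag : ∀ i, (Aᵀ * fromBlocks (1 : Matrix o o F) 0 0 S * A) i i = A (.inl default) i ^ 2 := by
      intro i
      rw [diag_conj (by rw [fromBlocks_transpose]; simp [hS])]
      congr 1
      simp only [Matrix.mulVec, dotProduct, Fintype.sum_sum_type, Fintype.sum_unique,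
        Matrix.transpose_apply, dvec]
      have h1 : rt (1 : F) = 1 := sq_inj (by rw [rt_sq, one_pow])
      have h0 : rt (0 : F) = 0 := sq_inj (by rw [rt_sq]; simp)
      simp [hSz, h1, h0]
    have ha : a = 1 := by
      ext x y
      obtain rfl := Unique.eq_default x
      obtain rfl := Unique.eq_default y
      have := hdiag (.inl default)
      rw [hA] at this
      exact sq_inj (by simpa [a, Matrix.toBlocks₁₁] using this.symm)
    have hb : b = 0 := by
      ext x y
      obtain rfl := Unique.eq_default x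
      have := hdiag (.inr y)
      rw [hA] at this
      exact sq_inj (by simpa [b, Matrix.toBlocks₁₂, hSz] using this.symm)
    rw [hAe, ha, hb, fromBlocks_transpose, fromBlocks_multiply, fromBlocks_multiply] at hA
    simp only [Matrix.transpose_one, Matrix.transpose_zero, Matrix.mul_zero, Matrix.zero_mul,
      Matrix.one_mul, Matrix.mul_one, add_zero, zero_add, fromBlocks_inj] at hA
    obtain ⟨-, hcD, -, hD⟩ := hA
    have hc : c = 0 := by
      have hu : IsUnit D.det := by
        rw [← hD, Matrix.det_mul] at hSd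
        exact isUnit_of_mul_isUnit_right hSd
      have h1 := congrArg (· * D⁻¹) hcD
      simp only [Matrix.zero_mul, Matrix.mul_nonsing_inv_cancel_right _ _ hu] at h1
      have h2 := congrArg Matrix.transpose h1
      rw [Matrix.transpose_mul, hS, Matrix.transpose_transpose, Matrix.transpose_zero] at h2
      rw [← Matrix.nonsing_inv_mul_cancel_left (A := S) c hSd, h2, Matrix.mul_zero]
    exact ⟨⟨D, hD⟩, Subtype.ext ((show fromBlocks 1 0 0 D = fromBlocks a b c D by
      rw [ha, hb, hc]).trans (fromBlocks_toBlocks A))⟩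

/-- The matrix `[[0,1],[1,1]] ⊕ S`. -/
def evenBlock {o n : Type*} [DecidableEq o] (S : Matrix n n F) :
    Matrix (o ⊕ o ⊕ n) (o ⊕ o ⊕ n) F :=
  bm 0 1 0 1 1 0 0 0 S

/-- `[[0,1],[1,1]] ⊕ J`. -/
theorem card_iso_twoBlock {o n : Type*} [Fintype o] [DecidableEq o] [Unique o] [Fintype n]
    [DecidableEq n] {S : Matrix n n F} (hS : Sᵀ = S) (hSd : IsUnit S.det) (hSz : ∀ i, S i i = 0) :
    Nat.card (IsoSet (evenBlock (o := o) S)) =
      Nat.card F ^ (Fintype.card n + 1) * Nat.card (IsoSet S) := by
  have hcard : Nat.card (Matrix o o F × Matrix n o F × IsoSet S) =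
      Nat.card F ^ (Fintype.card n + 1) * Nat.card (IsoSet S) := by
    simp [Nat.card_prod, Nat.card_fun, Matrix, Nat.card_eq_fintype_card (α := n),
      Nat.card_eq_fintype_card (α := o), pow_succ]
    ring
  rw [← hcard]
  refine Nat.card_congr (Equiv.symm (Equiv.ofBijective
    (fun d : Matrix o o F × Matrix n o F × IsoSet S =>
      (⟨bm 1 d.1 (d.2.1ᵀ * S * d.2.2.1) 0 1 0 0 d.2.1 d.2.2.1, ?_⟩ : IsoSet (evenBlock (o := o) S)))
    ⟨?_, ?_⟩))
  · obtain ⟨l, k, D, hD⟩ := d
    have hk : kᵀ * S * k = 0 := by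
      ext x y
      obtain rfl := Unique.eq_default x
      obtain rfl := Unique.eq_default y
      rw [diag_conj hS]
      have h0 : dvec S = 0 := funext fun j => sq_inj (by rw [dvec, rt_sq, hSz]; simp)
      simp [h0]
    have hl : lᵀ = l := by
      ext x y
      rw [Unique.eq_default x, Unique.eq_default y]
      rfl
    rw [evenBlock, bm_transpose, bm_mul, bm_mul, bm_inj]
    simp only [Matrix.transpose_one, Matrix.transpose_zero, Matrix.mul_zero, Matrix.zero_mul,
      Matrix.one_mul, Matrix.mul_one, add_zero, zero_add, hD, hk, hl]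
    refine ⟨⟨trivial, trivial, trivial⟩, ⟨trivial, ?_, ?_⟩, trivial, ?_, trivial⟩
    · rw [← add_assoc, add_self, zero_add]
    · exact add_self _
    · simp only [Matrix.transpose_mul, Matrix.transpose_transpose, hS, ← Matrix.mul_assoc]
      exact add_self _
  · rintro ⟨l, k, D⟩ ⟨l', k', D'⟩ h
    have h' := congrArg Subtype.val h
    simp only [bm_inj] at h'
    obtain ⟨⟨-, rfl, -⟩, -, -, rfl, hD⟩ := h'
    obtain rfl := Subtype.ext hD
    rfl
  · rintro ⟨A, hA⟩
    obtain ⟨a, l, φ, x, y, z, c, k, D, rfl⟩ := exists_bm A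
    have hdiag : ∀ i, ((bm a l φ x y z c k D)ᵀ * evenBlock (o := o) S * bm a l φ x y z c k D) i i =
        bm a l φ x y z c k D (.inr (.inl default)) i ^ 2 := by
      intro i
      rw [diag_conj (by rw [evenBlock, bm_transpose]; simp [hS])]
      congr 1
      have h1 : rt (1 : F) = 1 := sq_inj (by rw [rt_sq, one_pow])
      have h0 : rt (0 : F) = 0 := sq_inj (by rw [rt_sq]; simp)
      simp [Matrix.mulVec, dotProduct, Fintype.sum_sum_type, dvec, evenBlock, bm, hSz, h1, h0]
    rw [hA] at hdiag
    have hx : x = 0 := by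
      ext u v
      obtain rfl := Unique.eq_default u
      obtain rfl := Unique.eq_default v
      exact sq_inj (by simpa [evenBlock, bm] using (hdiag (.inl default)).symm)
    have hy : y = 1 := by
      ext u v
      obtain rfl := Unique.eq_default u
      obtain rfl := Unique.eq_default v
      exact sq_inj (by simpa [evenBlock, bm] using (hdiag (.inr (.inl default))).symm)
    have hz : z = 0 := by
      ext u v
      obtain rfl := Unique.eq_default u
      exact sq_inj (by simpa [evenBlock, bm, hSz] using (hdiag (.inr (.inr v))).symm)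
    subst hx hy hz
    rw [evenBlock, bm_transpose, bm_mul, bm_mul, bm_inj] at hA
    simp only [Matrix.transpose_one, Matrix.transpose_zero, Matrix.mul_zero, Matrix.zero_mul,
      Matrix.one_mul, Matrix.mul_one, add_zero, zero_add] at hA
    obtain ⟨⟨-, h12, h13⟩, ⟨-, -, h23⟩, -, -, hD⟩ := hA
    have hu : IsUnit D.det := by
      rw [← hD, Matrix.det_mul] at hSd
      exact isUnit_of_mul_isUnit_right hSd
    have hc : c = 0 := by
      have h1 := congrArg (· * D⁻¹) h13
      simp only [Matrix.zero_mul, Matrix.mul_nonsing_inv_cancel_right _ _ hu] at h1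
      have h2 := congrArg Matrix.transpose h1
      rw [Matrix.transpose_mul, hS, Matrix.transpose_transpose, Matrix.transpose_zero] at h2
      rw [← Matrix.nonsing_inv_mul_cancel_left (A := S) c hSd, h2, Matrix.mul_zero]
    subst hc
    have ha : a = 1 := by
      have := congrArg Matrix.transpose h12
      simpa using this
    subst ha
    refine ⟨(l, k, ⟨D, hD⟩), Subtype.ext ?_⟩
    simp only [bm_inj, and_true, true_and]
    exact (add_eq_zero_iff.1 h23).symm

/-- Non-alternating non-degenerate forms. -/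
theorem card_iso_nonalt {n : Type*} [Fintype n] [DecidableEq n] {B : Matrix n n F} (hB : Bᵀ = B)
    (hBd : IsUnit B.det) (hne : ∃ i, B i i ≠ 0) :
    (∃ j, Fintype.card n = 2 * j + 1 ∧ Nat.card (IsoSet B) = spOrder (Nat.card F) j) ∨
    (∃ j, Fintype.card n = 2 * j + 2 ∧
      Nat.card (IsoSet B) = Nat.card F ^ (2 * j + 1) * spOrder (Nat.card F) j) := by
  classical
  set e := B⁻¹ *ᵥ dvec B with he
  have hBe : B *ᵥ e = dvec B := by
    rw [he, Matrix.mulVec_mulVec, Matrix.mul_nonsing_inv _ hBd, Matrix.one_mulVec]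
  set b : LinearMap.BilinForm F (n → F) := Matrix.toLinearMap₂' F B with hbdef
  have hbc : ∀ u v, b u v = b v u := fun u v => by
    rw [hbdef, Matrix.toLinearMap₂'_apply', Matrix.toLinearMap₂'_apply', dotProduct_comm v,
      Matrix.dotProduct_mulVec, ← Matrix.mulVec_transpose, hB]
  have hsq : ∀ v, b v v = b e v ^ 2 := fun v => by
    rw [hbc e v, hbdef, Matrix.toLinearMap₂'_apply', Matrix.toLinearMap₂'_apply', quad_symm hB, hBe]
  have hnd : ∀ v, (∀ w, b w v = 0) → v = 0 := fun v hv => by
    refine Matrix.mulVec_injective_of_isUnit ((Matrix.isUnit_iff_isUnit_det _).2 hBd)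
      (?_ : B *ᵥ v = B *ᵥ 0)
    rw [Matrix.mulVec_zero]
    funext k
    have := hv (Pi.single k 1)
    rw [hbdef, Matrix.toLinearMap₂'_apply', single_dotProduct, one_mul] at this
    exact this
  have he0 : e ≠ 0 := fun h => by
    obtain ⟨i, hi⟩ := hne
    rw [h, Matrix.mulVec_zero] at hBe
    exact hi (by rw [← rt_sq (B i i), show rt (B i i) = 0 from (congrFun hBe i).symm]; simp)
  have hbeta : b e e = 0 ∨ b e e = 1 := by
    have h := hsq e
    rcases mul_eq_zero.1 (show b e e * (b e e - 1) = 0 by linear_combination -h) with h | h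
    · exact .inl h
    · exact .inr (sub_eq_zero.1 h)
  rcases hbeta with hβ | hβ
  · -- e isotropic
    right
    obtain ⟨c₀, hc₀⟩ : ∃ v, b e v ≠ 0 := by
      by_contra! h
      exact he0 (hnd e fun w => by rw [hbc]; exact h w)
    set c := (b e c₀)⁻¹ • c₀
    have hec : b e c = 1 := by simp [c, hc₀]
    have hcc : b c c = 1 := by rw [hsq, hec, one_pow]
    let π : (n → F) →ₗ[F] F × F := (b e).prod (b c)
    have hπ : LinearMap.range π = ⊤ := by
      rw [LinearMap.range_eq_top]
      rintro ⟨x, y⟩
      refine ⟨(y - x) • e + x • c, Prod.ext ?_ ?_⟩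
      · show b e _ = x
        simp [hec, hβ]
      · show b c _ = y
        simp [hbc c e, hec, hcc]
    let W := LinearMap.ker π
    have hW : finrank F W + 2 = Fintype.card n := by
      have h := LinearMap.finrank_range_add_finrank_ker π
      rw [hπ, finrank_top, Module.finrank_prod, Module.finrank_self,
        Module.finrank_fintype_fun_eq_card] at h
      simp only [W]
      omega
    let bw := Module.finBasis F W
    let S : Matrix (Fin (finrank F W)) (Fin (finrank F W)) F :=
      Matrix.of fun i j => b (bw i : n → F) (bw j : n → F)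
    have hwe : ∀ w : W, b e (w : n → F) = 0 ∧ b c (w : n → F) = 0 := fun w => Prod.ext_iff.1 w.2
    let X : Matrix n (Unit ⊕ Unit ⊕ Fin (finrank F W)) F := Matrix.of fun k i =>
      Sum.elim (fun _ => e) (Sum.elim (fun _ => c) fun i => (bw i : n → F)) i k
    have hX : Xᵀ * B * X = evenBlock (o := Unit) S := by
      ext x y
      rw [← toLinearMap₂'_cols, ← hbdef]
      rcases x with x | x | x <;> rcases y with y | y | y
      · exact hβ
      · show b e c = _; simp [hec, evenBlock, bm, Matrix.one_apply]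
      · show b e (bw y : n → F) = _; simp [(hwe _).1, evenBlock, bm]
      · show b c e = _; simp [hbc c e, hec, evenBlock, bm, Matrix.one_apply]
      · show b c c = _; simp [hcc, evenBlock, bm, Matrix.one_apply]
      · show b c (bw y : n → F) = _; simp [(hwe _).2, evenBlock, bm]
      · show b (bw x : n → F) e = _; rw [hbc]; simp [(hwe _).1, evenBlock, bm]
      · show b (bw x : n → F) c = _; rw [hbc]; simp [(hwe _).2, evenBlock, bm]
      · rfl
    have hSs : Sᵀ = S := by ext i j; exact hbc _ _
    have hSz : ∀ i, S i i = 0 := fun i => by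
      show b _ _ = 0
      rw [hsq, (hwe _).1]; simp
    have hXinj : Function.Injective (X *ᵥ ·) := by
      refine (injective_iff_map_eq_zero X.mulVecLin).2 fun z hz => ?_
      have hsum : z (.inl ()) • e + z (.inr (.inl ())) • c +
          ((∑ i, z (.inr (.inr i)) • bw i : W) : n → F) = 0 := by
        rw [← hz]
        funext k
        simp [X, Matrix.mulVec, dotProduct, Fintype.sum_sum_type, mul_comm, add_assoc]
      have h1 := congrArg (b e) hsum
      have h2 := congrArg (b c) hsum
      simp only [map_add, map_smul, hβ, hec, (hwe _).1, (hwe _).2, hbc c e, hcc, map_zero,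
        smul_eq_mul, mul_zero, mul_one, zero_add, add_zero] at h1 h2
      rw [h1, add_zero] at h2
      rw [h1, h2, zero_smul, zero_smul, zero_add, zero_add] at hsum
      have h3 := Fintype.linearIndependent_iff.1 bw.linearIndependent _ (Subtype.ext hsum)
      funext i
      rcases i with i | i | i
      exacts [h2, h1, h3 i]
    have hcard : Fintype.card n = Fintype.card (Unit ⊕ Unit ⊕ Fin (finrank F W)) := by
      simp; omega
    obtain ⟨Y, hYX⟩ := exists_left_inverse X hXinj
    have hXY := (Matrix.mul_eq_one_comm_of_card_eq _ _ F hcard.symm).1 hYX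
    have hSd : IsUnit S.det := by
      have h1 : (Xᵀ * B * X) * (Y * B⁻¹ * Yᵀ) = 1 := by
        calc (Xᵀ * B * X) * (Y * B⁻¹ * Yᵀ) = Xᵀ * (B * (X * Y) * B⁻¹) * Yᵀ := by
              simp only [Matrix.mul_assoc]
          _ = 1 := by
            rw [hXY, Matrix.mul_one, Matrix.mul_nonsing_inv _ hBd, Matrix.mul_one,
              ← Matrix.transpose_mul, hYX, Matrix.transpose_one]
      rw [hX] at h1
      obtain ⟨u, v, w, u', v', w', u'', v'', w'', hM⟩ := exists_bm (Y * B⁻¹ * Yᵀ)
      rw [hM, evenBlock, bm_mul, ← bm_one, bm_inj] at h1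
      exact Matrix.isUnit_det_of_right_inverse (B := w'') (by simpa using h1.2.2.2.2)
    obtain ⟨j, hj, hjc⟩ := card_iso_alt hSs hSd hSz
    simp only [Fintype.card_fin] at hj
    refine ⟨j, by omega, ?_⟩
    rw [Nat.card_congr (isoSetCongr B X Y hXY hYX), hX, card_iso_twoBlock hSs hSd hSz, hjc,
      Fintype.card_fin, hj]
  · left
    let W := LinearMap.ker (b e)
    have hW : finrank F W + 1 = Fintype.card n := by
      have h := LinearMap.finrank_range_add_finrank_ker (b e)
      rw [LinearMap.range_eq_top.2 (fun x => ⟨x • e, by simp [hβ]⟩), finrank_top,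
        Module.finrank_self, Module.finrank_fintype_fun_eq_card] at h
      simp only [W]
      omega
    let bw := Module.finBasis F W
    let S : Matrix (Fin (finrank F W)) (Fin (finrank F W)) F :=
      Matrix.of fun i j => b (bw i : n → F) (bw j : n → F)
    let X : Matrix n (Unit ⊕ Fin (finrank F W)) F := Matrix.of fun k i =>
      Sum.elim (fun _ => e) (fun i => (bw i : n → F)) i k
    have hwe : ∀ w : W, b e (w : n → F) = 0 := fun w => w.2
    have hX : Xᵀ * B * X = fromBlocks 1 0 0 S := by
      ext x y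
      rw [← toLinearMap₂'_cols, ← hbdef]
      rcases x with x | x <;> rcases y with y | y
      · show b e e = _; simp [hβ]
      · show b e (bw y : n → F) = _; simp [hwe]
      · show b (bw x : n → F) e = _; rw [hbc]; simp [hwe]
      · rfl
    have hSs : Sᵀ = S := by ext i j; exact hbc _ _
    have hSz : ∀ i, S i i = 0 := fun i => by
      show b _ _ = 0
      rw [hsq, hwe]; simp
    have hXinj : Function.Injective (X *ᵥ ·) := by
      refine (injective_iff_map_eq_zero X.mulVecLin).2 fun z hz => ?_
      have hsum : z (.inl ()) • e + ((∑ i, z (.inr i) • bw i : W) : n → F) = 0 := by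
        rw [← hz]
        funext k
        simp [X, Matrix.mulVec, dotProduct, Fintype.sum_sum_type, mul_comm]
      have h1 := congrArg (b e) hsum
      simp only [map_add, map_smul, hβ, hwe, map_zero, smul_eq_mul, mul_one, add_zero] at h1
      rw [h1, zero_smul, zero_add] at hsum
      have h3 := Fintype.linearIndependent_iff.1 bw.linearIndependent _ (Subtype.ext hsum)
      funext i
      rcases i with i | i
      exacts [h1, h3 i]
    have hcard : Fintype.card n = Fintype.card (Unit ⊕ Fin (finrank F W)) := by simp; omega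
    obtain ⟨Y, hYX⟩ := exists_left_inverse X hXinj
    have hXY := (Matrix.mul_eq_one_comm_of_card_eq _ _ F hcard.symm).1 hYX
    have hSd : IsUnit S.det := by
      have h1 : (Xᵀ * B * X) * (Y * B⁻¹ * Yᵀ) = 1 := by
        calc (Xᵀ * B * X) * (Y * B⁻¹ * Yᵀ) = Xᵀ * (B * (X * Y) * B⁻¹) * Yᵀ := by
              simp only [Matrix.mul_assoc]
          _ = 1 := by
            rw [hXY, Matrix.mul_one, Matrix.mul_nonsing_inv _ hBd, Matrix.mul_one,
              ← Matrix.transpose_mul, hYX, Matrix.transpose_one]
      rw [hX] at h1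
      have hd := congrArg Matrix.det h1
      rw [Matrix.det_mul, Matrix.det_fromBlocks_zero₂₁, Matrix.det_one, Matrix.det_one, one_mul] at hd
      exact IsUnit.of_mul_eq_one _ hd
    obtain ⟨j, hj, hjc⟩ := card_iso_alt hSs hSd hSz
    simp only [Fintype.card_fin] at hj
    exact ⟨j, by omega, by
      rw [Nat.card_congr (isoSetCongr B X Y hXY hYX), hX, card_iso_oneBlock hSs hSd hSz, hjc]⟩

end Cfsg.Agent.InvCentralizer
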