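import Cfsg.Agent.Lib.InvCentralizer.Model
import Cfsg.Agent.Lib.InvCentralizer.IsoCount
import Cfsg.Agent.Lib.Forms.Witt
import Cfsg.Agent.Lib.Forms.Standard

/-!
# Adapted bases for an involution of `Sp_2m(q)`, `q` even

* `Frame'` : matrices `G` with `Gᵀ J G = J`
* `exists_sp_move` : a totally isotropic subspace is spanned by the first columns of a symplectic matrix
* `exists_orth_move` : the same inside `O⁺` for a totally singular subspace
* `exists_adapted_of_move` : the basis `P` with `Pᵀ J P = gram B J_k` and `(A + 1) P = P nil`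
-/

set_option autoImplicit false
set_option linter.unusedSectionVars false

namespace Cfsg.Agent.InvCentralizer

open Matrix Module

universe u

variable {F : Type u} [Field F] [CharP F 2] [Finite F]

/-- `J` of size `2m`. -/
abbrev Jm (m : ℕ) (F : Type u) [Field F] : Matrix (Fin m ⊕ Fin m) (Fin m ⊕ Fin m) F :=
  Matrix.J (Fin m) F

/-- The matrix of `Σ x_j y_j`. -/
def hypMat (m : ℕ) (F : Type u) [Field F] : Matrix (Fin m ⊕ Fin m) (Fin m ⊕ Fin m) F :=
  fromBlocks 0 1 0 0

theorem hypMat_symm (m : ℕ) : hypMat m F + (hypMat m F)ᵀ = Jm m F := by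
  rw [hypMat, fromBlocks_transpose, fromBlocks_add, Jm, Matrix.J]
  simp only [Matrix.transpose_zero, Matrix.transpose_one, add_zero, zero_add]
  congr 1
  ext i j
  exact (CharTwo.neg_eq _).symm

theorem hypMat_quad (m : ℕ) (v : Fin m ⊕ Fin m → F) :
    v ⬝ᵥ (hypMat m F *ᵥ v) = Cfsg.quadFormPlus m F v := by
  simp [hypMat, Cfsg.quadFormPlus, dotProduct, Matrix.mulVec, Fintype.sum_sum_type, Matrix.one_apply]

theorem sympB_eq_dot {m : ℕ} (u v : Fin m ⊕ Fin m → F) :
    GLOrder.sympB m F u v = u ⬝ᵥ (Jm m F *ᵥ v) := by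
  rw [GLOrder.sympB, Matrix.toLinearMap₂'_apply', J_std_symm.2.1]

/-- The first `s` standard `e`-vectors. -/
def stdE (m s : ℕ) (h : s ≤ m) (F : Type u) [Field F] (i : Fin s) : Fin m ⊕ Fin m → F :=
  Pi.single (Sum.inl (Fin.castLE h i)) 1

theorem finrank_span_stdE {m s : ℕ} (h : s ≤ m) :
    finrank F (Submodule.span F (Set.range (stdE m s h F))) = s := by
  rw [finrank_span_eq_card, Fintype.card_fin]
  have hb := (Pi.basisFun F (Fin m ⊕ Fin m)).linearIndependent.comp
    (fun i : Fin s => (Sum.inl (Fin.castLE h i) : Fin m ⊕ Fin m))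
    (Sum.inl_injective.comp (Fin.castLE_injective h))
  exact (show (Pi.basisFun F (Fin m ⊕ Fin m)) ∘ (fun i : Fin s => Sum.inl (Fin.castLE h i)) =
    stdE m s h F by funext i; simp [stdE]) ▸ hb

theorem mem_span_stdE {m s : ℕ} (h : s ≤ m) {v : Fin m ⊕ Fin m → F}
    (hv : v ∈ Submodule.span F (Set.range (stdE m s h F))) :
    ∀ i : Fin m, v (Sum.inr i) = 0 := by
  intro i
  induction hv using Submodule.span_induction with
  | mem x hx => obtain ⟨j, rfl⟩ := hx; simp [stdE]
  | zero => rfl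
  | add x y _ _ hx hy => simp [hx, hy]
  | smul c x _ hx => simp [hx]

theorem le_of_isotropic {m : ℕ} (R : Submodule F (Fin m ⊕ Fin m → F))
    (hR : ∀ x ∈ R, ∀ y ∈ R, GLOrder.sympB m F x y = 0) : finrank F R ≤ m := by
  have hB : (GLOrder.sympB m F).Nondegenerate :=
    ⟨GLOrder.sympB_nondeg, fun v hv => GLOrder.sympB_nondeg v fun u => by
      rw [GLOrder.sympB_swap, hv, neg_zero]⟩
  have h1 : R ≤ (GLOrder.sympB m F).orthogonal R := fun x hx y hy => hR y hy x hx
  have h2 := Submodule.finrank_mono h1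
  rw [LinearMap.BilinForm.finrank_orthogonal hB, GLOrder.finrank_sympSpace] at h2
  omega

/-- Moving a totally isotropic subspace to standard position. -/
theorem exists_sp_move {m s : ℕ} (h : s ≤ m) (R : Submodule F (Fin m ⊕ Fin m → F))
    (hs : finrank F R = s) (hR : ∀ x ∈ R, ∀ y ∈ R, GLOrder.sympB m F x y = 0) :
    ∃ G : Matrix (Fin m ⊕ Fin m) (Fin m ⊕ Fin m) F, Gᵀ * Jm m F * G = Jm m F ∧
      Submodule.span F (Set.range fun i => G *ᵥ stdE m s h F i) = R := by
  set X := Submodule.span F (Set.range (stdE m s h F))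
  have φ : X ≃ₗ[F] R := LinearEquiv.ofFinrankEq _ _ ((finrank_span_stdE h).trans hs.symm)
  have hB : (GLOrder.sympB m F).Nondegenerate :=
    ⟨GLOrder.sympB_nondeg, fun v hv => GLOrder.sympB_nondeg v fun u => by
      rw [GLOrder.sympB_swap, hv, neg_zero]⟩
  obtain ⟨g, hg, hgx⟩ := Forms.witt_alternating (GLOrder.sympB m F) hB GLOrder.sympB_self X R φ
    (fun x x' => by
      rw [hR _ (φ x).2 _ (φ x').2, GLOrder.sympB_apply]
      exact (Finset.sum_eq_zero fun i _ => by
        rw [mem_span_stdE h x.2 i, mem_span_stdE h x'.2 i]; ring).symm)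
  refine ⟨LinearMap.toMatrix' g.toLinearMap, SymplecticGroup.mem_iff'.1
    ((GLOrder.mem_symplecticGroup_iff_preserves _).2 fun u v => ?_), ?_⟩
  · rw [LinearMap.toMatrix'_mulVec, LinearMap.toMatrix'_mulVec]
    exact hg u v
  · rw [show (fun i => LinearMap.toMatrix' g.toLinearMap *ᵥ stdE m s h F i) =
      g.toLinearMap ∘ stdE m s h F from funext fun i => LinearMap.toMatrix'_mulVec _ _,
      Set.range_comp, Submodule.span_image]
    apply le_antisymm
    · rintro _ ⟨x, hx, rfl⟩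
      show g x ∈ R
      rw [show g x = (φ ⟨x, hx⟩ : Fin m ⊕ Fin m → F) from hgx ⟨x, hx⟩]
      exact (φ _).2
    · intro y hy
      refine ⟨(φ.symm ⟨y, hy⟩ : X), (φ.symm ⟨y, hy⟩).2, ?_⟩
      show g _ = y
      rw [hgx, LinearEquiv.apply_symm_apply]

/-- Moving a totally singular subspace to standard position. -/
theorem exists_orth_move {m s : ℕ} (h : s ≤ m) (R : Submodule F (Fin m ⊕ Fin m → F))
    (hs : finrank F R = s) (hR : ∀ x ∈ R, Cfsg.quadFormPlus m F x = 0) :
    ∃ G : Matrix (Fin m ⊕ Fin m) (Fin m ⊕ Fin m) F, Gᵀ * Jm m F * G = Jm m F ∧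
      (∀ i, (Gᵀ * hypMat m F * G) i i = hypMat m F i i) ∧
      Submodule.span F (Set.range fun i => G *ᵥ stdE m s h F i) = R := by
  set X := Submodule.span F (Set.range (stdE m s h F))
  have φ : X ≃ₗ[F] R := LinearEquiv.ofFinrankEq _ _ ((finrank_span_stdE h).trans hs.symm)
  obtain ⟨g, hg, hgx⟩ := Forms.witt_quadratic (Forms.qfPlus m F) (Forms.qfPlus_nondegenerate m) X R φ
    (fun x => by
      rw [Forms.qfPlus_eq, hR _ (φ x).2]
      exact (Finset.sum_eq_zero fun i _ => by rw [mem_span_stdE h x.2 i, mul_zero]).symm)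
  set G := LinearMap.toMatrix' g.toLinearMap with hGdef
  have hq : ∀ v, v ⬝ᵥ ((Gᵀ * hypMat m F * G) *ᵥ v) = v ⬝ᵥ (hypMat m F *ᵥ v) := fun v => by
    rw [← Matrix.mulVec_mulVec, ← Matrix.mulVec_mulVec, Matrix.dotProduct_mulVec,
      Matrix.vecMul_transpose, hypMat_quad, hypMat_quad, hGdef, LinearMap.toMatrix'_mulVec,
      ← Forms.qfPlus_eq]
    exact hg v
  obtain ⟨h1, h2⟩ := quad_eq_iff.1 hq
  refine ⟨G, ?_, h2, ?_⟩
  · rw [hypMat_symm] at h1
    rw [← hypMat_symm m, Matrix.mul_add, Matrix.add_mul, ← h1.trans (hypMat_symm m).symm]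
    simp only [Matrix.transpose_mul, Matrix.transpose_transpose, Matrix.mul_assoc]
  · rw [show (fun i => G *ᵥ stdE m s h F i) =
      g.toLinearMap ∘ stdE m s h F from funext fun i => LinearMap.toMatrix'_mulVec _ _,
      Set.range_comp, Submodule.span_image]
    apply le_antisymm
    · rintro _ ⟨x, hx, rfl⟩
      show g x ∈ R
      rw [show g x = (φ ⟨x, hx⟩ : Fin m ⊕ Fin m → F) from hgx ⟨x, hx⟩]
      exact (φ _).2
    · intro y hy
      refine ⟨(φ.symm ⟨y, hy⟩ : X), (φ.symm ⟨y, hy⟩).2, ?_⟩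
      show g _ = y
      rw [hgx, LinearEquiv.apply_symm_apply]

section Adapted

variable {s k : ℕ}

/-- Indices of the adapted coordinates. -/
abbrev AIdx (s k : ℕ) : Type := Fin s ⊕ (Fin k ⊕ Fin k) ⊕ Fin s

/-- The adapted basis from a symplectic matrix. -/
def adapted (A G : Matrix (Fin (s + k) ⊕ Fin (s + k)) (Fin (s + k) ⊕ Fin (s + k)) F) :
    Matrix (Fin (s + k) ⊕ Fin (s + k)) (AIdx s k) F :=
  Matrix.of fun v c => match c with
    | .inl j => ((A + 1) * G) v (.inr (Fin.castAdd k j))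
    | .inr (.inl (.inl j)) => G v (.inl (Fin.natAdd s j))
    | .inr (.inl (.inr j)) => G v (.inr (Fin.natAdd s j))
    | .inr (.inr j) => G v (.inr (Fin.castAdd k j))

/-- Properties of the adapted basis. -/
theorem exists_adapted_of_move
    {A : Matrix (Fin (s + k) ⊕ Fin (s + k)) (Fin (s + k) ⊕ Fin (s + k)) F}
    (hA : Aᵀ * Jm (s + k) F * A = Jm (s + k) F) (hA2 : A * A = 1)
    {G : Matrix (Fin (s + k) ⊕ Fin (s + k)) (Fin (s + k) ⊕ Fin (s + k)) F}
    (hG : Gᵀ * Jm (s + k) F * G = Jm (s + k) F)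
    (hR : Submodule.span F (Set.range fun i => G *ᵥ stdE (s + k) s (Nat.le_add_right s k) F i) =
      LinearMap.range (A + 1).mulVecLin) :
    ∃ (B : Matrix (Fin s) (Fin s) F) (P' : Matrix (AIdx s k) (Fin (s + k) ⊕ Fin (s + k)) F),
      Bᵀ = B ∧ IsUnit B.det ∧ P' * adapted A G = 1 ∧ adapted A G * P' = 1 ∧
      (adapted A G)ᵀ * Jm (s + k) F * adapted A G = gram B (Jm k F) ∧
      (A + 1) * adapted A G = adapted A G * (nil : Matrix (AIdx s k) (AIdx s k) F) ∧
      ∀ i, B i i = (Gᵀ * (Jm (s + k) F * A) * G) (.inr (Fin.castAdd k i)) (.inr (Fin.castAdd k i)) := by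
  set N := A + 1 with hNdef
  have hJA : Aᵀ * Jm (s + k) F = Jm (s + k) F * A := by
    calc Aᵀ * Jm (s + k) F = Aᵀ * Jm (s + k) F * (A * A) := by rw [hA2, Matrix.mul_one]
      _ = Jm (s + k) F * A := by rw [← Matrix.mul_assoc, hA]
  have hJN : Nᵀ * Jm (s + k) F = Jm (s + k) F * N := by
    rw [hNdef, Matrix.transpose_add, Matrix.transpose_one, Matrix.add_mul, Matrix.mul_add, hJA,
      Matrix.one_mul, Matrix.mul_one]
  have hNN : N * N = 0 := by
    rw [hNdef, Matrix.add_mul, Matrix.mul_add, hA2, Matrix.one_mul, Matrix.mul_one, add_comm A 1,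
      add_self]
  let f : (Fin (s + k) ⊕ Fin (s + k) → F) → (Fin (s + k) ⊕ Fin (s + k) → F) → F := fun x y => x ⬝ᵥ (Jm (s + k) F *ᵥ y)
  have hsm : ∀ x y, f x y = f y x := fun x y => by
    show x ⬝ᵥ _ = y ⬝ᵥ _
    rw [dotProduct_comm y, Matrix.dotProduct_mulVec, ← Matrix.mulVec_transpose, J_std_symm.1]
  have hfN : ∀ x y, f (N *ᵥ x) y = f x (N *ᵥ y) := fun x y => by
    show _ ⬝ᵥ _ = _ ⬝ᵥ _
    rw [Matrix.mulVec_mulVec, ← hJN, ← Matrix.mulVec_mulVec, Matrix.dotProduct_mulVec x Nᵀ,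
      Matrix.vecMul_transpose]
  have hnd : ∀ x, (∀ y, f y x = 0) → x = 0 := fun x hx => GLOrder.sympB_nondeg x fun y => by
    rw [sympB_eq_dot]; exact (hsm x y).trans (hx y)
  have hfG : ∀ a b, f (G.col a) (G.col b) = Jm (s + k) F a b := fun a b => by
    conv_rhs => rw [← hG]
    rw [Matrix.mul_assoc]
    rfl
  have hinl : ∀ a b : Fin (s + k), f (G.col (.inl a)) (G.col (.inl b)) = 0 := fun a b => by
    rw [hfG]; simp [Jm, Matrix.J]
  have hmix : ∀ a b : Fin (s + k), f (G.col (.inl a)) (G.col (.inr b)) = if a = b then 1 else 0 :=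
    fun a b => by
      rw [hfG]
      by_cases hab : a = b <;> simp [Jm, Matrix.J, hab, CharTwo.neg_eq, Matrix.one_apply]
  have hinr : ∀ a b : Fin (s + k), f (G.col (.inr a)) (G.col (.inr b)) = 0 := fun a b => by
    rw [hfG]; simp [Jm, Matrix.J]
  have hne : ∀ (a : Fin s) (b : Fin k), Fin.castAdd k a ≠ Fin.natAdd s b := fun a b h => by
    have := congrArg Fin.val h
    simp at this
    omega
  have hstd : ∀ i, G *ᵥ stdE (s + k) s (Nat.le_add_right s k) F i = G.col (.inl (Fin.castAdd k i)) :=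
    fun i => by rw [stdE, Matrix.mulVec_single_one]; rfl
  have hRe : ∀ x, N *ᵥ x ∈ Submodule.span F (Set.range fun i : Fin s => G.col (.inl (Fin.castAdd k i))) :=
    fun x => by
      have : N *ᵥ x ∈ LinearMap.range N.mulVecLin := ⟨x, rfl⟩
      rw [← hR, funext hstd] at this
      exact this
  have hkill : ∀ v, (∀ i : Fin s, f (G.col (.inl (Fin.castAdd k i))) v = 0) → N *ᵥ v = 0 :=
    fun v hv => hnd _ fun y => by
      rw [← hfN]
      generalize hz : N *ᵥ y = z
      have hmem := hRe y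
      rw [hz] at hmem
      clear hz
      induction hmem using Submodule.span_induction with
      | mem x hx => obtain ⟨i, rfl⟩ := hx; exact hv i
      | zero => simp [f]
      | add x y _ _ hx hy => simp [f] at hx hy ⊢; simp [hx, hy]
      | smul c x _ hx => simp [f] at hx ⊢; simp [hx]
  set u : Fin s → (Fin (s + k) ⊕ Fin (s + k) → F) := fun j => G.col (.inr (Fin.castAdd k j))
  let B : Matrix (Fin s) (Fin s) F := Matrix.of fun i j => f (u i) (N *ᵥ u j)
  have hBs : Bᵀ = B := by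
    ext i j
    show f (u j) (N *ᵥ u i) = f (u i) (N *ᵥ u j)
    rw [← hfN, hsm]
  have hNw1 : ∀ j : Fin k, N *ᵥ G.col (.inl (Fin.natAdd s j)) = 0 := fun j =>
    hkill _ fun i => hinl _ _
  have hNw2 : ∀ j : Fin k, N *ᵥ G.col (.inr (Fin.natAdd s j)) = 0 := fun j =>
    hkill _ fun i => by rw [hmix, if_neg (hne i j)]
  have hBd : IsUnit B.det := by
    refine (Matrix.isUnit_iff_isUnit_det B).1 (Matrix.mulVec_injective_iff_isUnit.1
      ((injective_iff_map_eq_zero B.mulVecLin).2 fun c hc => ?_))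
    set z : Fin (s + k) ⊕ Fin (s + k) → F := ∑ j, c j • u j with hz
    have hBc : ∀ i, f (u i) (N *ᵥ z) = 0 := fun i => by
      have h1 : (B *ᵥ c) i = 0 := congrFun hc i
      rw [← h1]
      simp only [f, hz, Matrix.mulVec_sum, dotProduct_sum, Matrix.mulVec_smul, dotProduct_smul,
        smul_eq_mul]
      simp only [Matrix.mulVec, dotProduct, B, Matrix.of_apply, f]
      exact Finset.sum_congr rfl fun j _ => mul_comm _ _
    obtain ⟨a, ha⟩ := (Submodule.mem_span_range_iff_exists_fun F).1 (hRe z)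
    have hNz : N *ᵥ z = 0 := by
      rw [← ha]
      refine Finset.sum_eq_zero fun i _ => ?_
      have h1 : f (u i) (∑ l, a l • G.col (.inl (Fin.castAdd k l))) = a i := by
        simp only [f, Matrix.mulVec_sum, dotProduct_sum, Matrix.mulVec_smul, dotProduct_smul,
          smul_eq_mul]
        rw [Finset.sum_eq_single i (fun l _ hl => by
          rw [show u i ⬝ᵥ _ = f (u i) (G.col (.inl (Fin.castAdd k l))) from rfl, hsm, hmix,
            if_neg (fun h => hl (Fin.castAdd_injective _ _ h)), mul_zero]) (by simp)]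
        rw [show u i ⬝ᵥ _ = f (u i) (G.col (.inl (Fin.castAdd k i))) from rfl, hsm, hmix, if_pos rfl,
          mul_one]
      rw [ha, hBc] at h1
      rw [← h1, zero_smul]
    funext i
    have hmem : G.col (.inl (Fin.castAdd k i)) ∈ LinearMap.range N.mulVecLin := by
      rw [← hR, funext hstd]; exact Submodule.subset_span ⟨i, rfl⟩
    obtain ⟨y, hy⟩ := hmem
    have h1 : f (G.col (.inl (Fin.castAdd k i))) z = c i := by
      simp only [f, hz, Matrix.mulVec_sum, dotProduct_sum, Matrix.mulVec_smul, dotProduct_smul,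
        smul_eq_mul]
      rw [Finset.sum_eq_single i (fun l _ hl => by
        rw [show _ ⬝ᵥ (_ *ᵥ u l) = f (G.col (.inl (Fin.castAdd k i))) (u l) from rfl, hmix,
          if_neg (fun h => hl (Fin.castAdd_injective _ _ h).symm), mul_zero]) (by simp)]
      rw [show _ ⬝ᵥ (_ *ᵥ u i) = f (G.col (.inl (Fin.castAdd k i))) (u i) from rfl, hmix, if_pos rfl,
        mul_one]
    rw [← h1, ← hy, Matrix.mulVecLin_apply, hfN, hNz]
    simp [f]
  have hcolr : ∀ j, (adapted A G).col (.inl j) = N *ᵥ u j := fun j => by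
    funext v; rfl
  have hNN' : ∀ x, N *ᵥ (N *ᵥ x) = 0 := fun x => by
    rw [Matrix.mulVec_mulVec, hNN, Matrix.zero_mulVec]
  have hgram : (adapted A G)ᵀ * Jm (s + k) F * adapted A G = gram B (Jm k F) := by
    ext a b
    rw [Matrix.mul_assoc, show ((adapted A G)ᵀ * (Jm (s + k) F * adapted A G)) a b =
      f ((adapted A G).col a) ((adapted A G).col b) from rfl]
    have hz : ∀ x, f x 0 = 0 ∧ f 0 x = 0 := fun x => by simp [f]
    rcases a with a | (a | a) | a <;> rcases b with b | (b | b) | b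
    · rw [hcolr, hcolr, hfN, hNN', (hz _).1]; simp [gram, bm]
    · rw [hcolr, hfN]; show f _ (N *ᵥ G.col (.inl (Fin.natAdd s b))) = _
      rw [hNw1, (hz _).1]; simp [gram, bm]
    · rw [hcolr, hfN]; show f _ (N *ᵥ G.col (.inr (Fin.natAdd s b))) = _
      rw [hNw2, (hz _).1]; simp [gram, bm]
    · rw [hcolr, hfN]; rfl
    · rw [hcolr, ← hfN]; show f (N *ᵥ G.col (.inl (Fin.natAdd s a))) _ = _
      rw [hNw1, (hz _).2]; simp [gram, bm]
    · show f (G.col (.inl (Fin.natAdd s a))) (G.col (.inl (Fin.natAdd s b))) = _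
      rw [hinl]; simp [gram, bm, Jm, Matrix.J]
    · show f (G.col (.inl (Fin.natAdd s a))) (G.col (.inr (Fin.natAdd s b))) = _
      rw [hmix]
      by_cases hab : a = b <;> simp [gram, bm, Jm, Matrix.J, Matrix.one_apply, hab, CharTwo.neg_eq]
    · show f (G.col (.inl (Fin.natAdd s a))) (G.col (.inr (Fin.castAdd k b))) = _
      rw [hmix, if_neg (fun h => hne b a h.symm)]; simp [gram, bm]
    · rw [hcolr, ← hfN]; show f (N *ᵥ G.col (.inr (Fin.natAdd s a))) _ = _
      rw [hNw2, (hz _).2]; simp [gram, bm]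
    · show f (G.col (.inr (Fin.natAdd s a))) (G.col (.inl (Fin.natAdd s b))) = _
      rw [hsm, hmix]
      by_cases hab : a = b <;>
        simp [gram, bm, Jm, Matrix.J, Matrix.one_apply, hab, eq_comm, CharTwo.neg_eq]
    · show f (G.col (.inr (Fin.natAdd s a))) (G.col (.inr (Fin.natAdd s b))) = _
      rw [hinr]; simp [gram, bm, Jm, Matrix.J]
    · show f (G.col (.inr (Fin.natAdd s a))) (G.col (.inr (Fin.castAdd k b))) = _
      rw [hinr]; simp [gram, bm]
    · rw [hcolr]; rfl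
    · show f (u a) (G.col (.inl (Fin.natAdd s b))) = _
      rw [hsm, hmix, if_neg (fun h => hne a b h.symm)]; simp [gram, bm]
    · show f (u a) (G.col (.inr (Fin.natAdd s b))) = _
      rw [hinr]; simp [gram, bm]
    · show f (u a) (u b) = _
      rw [hinr]; simp [gram, bm]
  have hNP : N * adapted A G = adapted A G * (nil : Matrix (AIdx s k) (AIdx s k) F) := by
    ext v c
    have hl : (N * adapted A G) v c = (N *ᵥ (adapted A G).col c) v := rfl
    rw [hl]
    rcases c with c | (c | c) | c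
    · rw [hcolr, hNN']; rw [Matrix.mul_apply]; simp [nil, bm, Fintype.sum_sum_type]
    · show (N *ᵥ G.col (.inl (Fin.natAdd s c))) v = _
      rw [hNw1]; rw [Matrix.mul_apply]; simp [nil, bm, Fintype.sum_sum_type]
    · show (N *ᵥ G.col (.inr (Fin.natAdd s c))) v = _
      rw [hNw2]; rw [Matrix.mul_apply]; simp [nil, bm, Fintype.sum_sum_type]
    · show (N *ᵥ u c) v = _
      rw [← hcolr]
      rw [Matrix.mul_apply]
      simp [nil, bm, Fintype.sum_sum_type, Matrix.one_apply, Matrix.col_apply]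
  have hinv : bm 0 0 B⁻¹ 0 (Jm k F) 0 B⁻¹ 0 0 * gram B (Jm k F) = 1 := by
    rw [gram, bm_mul, ← bm_one, bm_inj]
    simp [Matrix.nonsing_inv_mul _ hBd, J_std_symm.2.2.2]
  set P' := bm 0 0 B⁻¹ 0 (Jm k F) 0 B⁻¹ 0 0 * ((adapted A G)ᵀ * Jm (s + k) F)
  have hP'P : P' * adapted A G = 1 := by rw [Matrix.mul_assoc, hgram, hinv]
  refine ⟨B, P', hBs, hBd, hP'P, ?_, hgram, hNP, fun i => ?_⟩
  · exact (Matrix.mul_eq_one_comm_of_card_eq _ _ F
      (by simp only [Fintype.card_sum, Fintype.card_fin]; omega)).1 hP'P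
  · show f (u i) (N *ᵥ u i) = _
    have h1 : f (u i) (N *ᵥ u i) = u i ⬝ᵥ ((Jm (s + k) F * A) *ᵥ u i) + f (u i) (u i) := by
      show u i ⬝ᵥ _ = _ + u i ⬝ᵥ _
      rw [hNdef, Matrix.add_mulVec, Matrix.one_mulVec, Matrix.mulVec_add, dotProduct_add,
        Matrix.mulVec_mulVec]
    rw [h1, hinr, add_zero, Matrix.mul_assoc _ _ G]
    rfl

end Adapted

end Cfsg.Agent.InvCentralizer
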