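import Cfsg.Agent.Lib.InvCentralizer.Model

/-!
# Gauss sums in characteristic two, and the non-alternating orthogonal centraliser

* `asChar` : the character of `F` with kernel `{w² + w}`
* `shift_mem_asImage` : if `Q(v)` and `Q(v) + f(v,k)²` are equivalent, then `Q(k) ∈ {w² + w}`
* `card_centSetQ` : the order of the centraliser, non-alternating case
-/

set_option autoImplicit false
set_option linter.unusedSectionVars false

namespace Cfsg.Agent.InvCentralizer

open Matrix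

variable {F : Type*} [Field F] [CharP F 2] [Finite F]

open scoped Classical in
/-- The character with kernel `asImage F`. -/
noncomputable def asChar (x : F) : ℤ := if x ∈ asImage F then 1 else -1

theorem asChar_add (x y : F) : asChar (x + y) = asChar x * asChar y := by
  classical
  simp only [asChar]
  rw [AddSubgroup.add_mem_iff_of_index_two (index_asImage (F := F))]
  by_cases hx : x ∈ asImage F <;> by_cases hy : y ∈ asImage F <;> simp [hx, hy]

theorem asChar_sq (x : F) : asChar (x ^ 2) = asChar x := by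
  have h : x ^ 2 + x ∈ asImage F := ⟨x, rfl⟩
  have h1 : asChar (x ^ 2) * asChar x = 1 := by rw [← asChar_add, asChar, if_pos h]
  rcases Int.eq_one_or_neg_one_of_mul_eq_one' h1 with ⟨a, b⟩ | ⟨a, b⟩ <;> rw [a, b]

theorem asChar_mul_self (x : F) : asChar x * asChar x = 1 := by
  rw [← asChar_add, CharTwo.add_self_eq_zero, asChar, if_pos (zero_mem _)]

theorem exists_notMem : ∃ c : F, c ∉ asImage F := by
  by_contra! h
  have := index_asImage (F := F)
  rw [show asImage F = ⊤ from eq_top_iff.2 fun x _ => h x, AddSubgroup.index_top] at this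
  norm_num at this

variable {w : Type*} [Fintype w] [DecidableEq w] {J H : Matrix w w F}
variable (hH : H + Hᵀ = J)
include hH

/-- The polarisation. -/
theorem quad_add (u v : w → F) : (u + v) ⬝ᵥ (H *ᵥ (u + v)) =
    u ⬝ᵥ (H *ᵥ u) + v ⬝ᵥ (H *ᵥ v) + u ⬝ᵥ (J *ᵥ v) := by
  rw [← hH, Matrix.add_mulVec, dotProduct_add, Matrix.mulVec_add, dotProduct_add, add_dotProduct,
    add_dotProduct, Matrix.dotProduct_mulVec u Hᵀ v, Matrix.vecMul_transpose,
    dotProduct_comm (H *ᵥ u) v]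
  ring

/-- The quadratic Gauss sum does not vanish. -/
theorem gauss_ne_zero [Fintype F] (hJ : IsUnit J.det) :
    ∑ v : w → F, asChar (v ⬝ᵥ (H *ᵥ v)) ≠ 0 := by
  classical
  intro h0
  have h : (∑ v : w → F, asChar (v ⬝ᵥ (H *ᵥ v))) * ∑ v : w → F, asChar (v ⬝ᵥ (H *ᵥ v)) =
      (Fintype.card (w → F) : ℤ) := by
    rw [Finset.sum_mul_sum]
    calc ∑ u : w → F, ∑ v : w → F, asChar (u ⬝ᵥ (H *ᵥ u)) * asChar (v ⬝ᵥ (H *ᵥ v))
        = ∑ u : w → F, ∑ d : w → F, asChar (d ⬝ᵥ (H *ᵥ d)) * asChar (u ⬝ᵥ (J *ᵥ d)) := by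
          refine Finset.sum_congr rfl fun u _ => ?_
          rw [← Equiv.sum_comp (Equiv.addLeft u) fun v => asChar (u ⬝ᵥ (H *ᵥ u)) * asChar (v ⬝ᵥ (H *ᵥ v))]
          refine Finset.sum_congr rfl fun d _ => ?_
          show asChar _ * asChar ((u + d) ⬝ᵥ (H *ᵥ (u + d))) = _
          rw [quad_add hH, asChar_add, asChar_add, ← mul_assoc, ← mul_assoc, asChar_mul_self, one_mul]
      _ = ∑ d : w → F, asChar (d ⬝ᵥ (H *ᵥ d)) * ∑ u : w → F, asChar (u ⬝ᵥ (J *ᵥ d)) := by
          rw [Finset.sum_comm]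
          simp only [Finset.mul_sum]
      _ = (Fintype.card (w → F) : ℤ) := by
          rw [Finset.sum_eq_single (0 : w → F)]
          · simp [asChar, zero_mem (asImage F)]
          · intro d _ hd
            have hJd : J *ᵥ d ≠ 0 := fun h => hd
              (Matrix.mulVec_injective_of_isUnit ((Matrix.isUnit_iff_isUnit_det _).2 hJ)
                (h.trans (Matrix.mulVec_zero J).symm))
            obtain ⟨i, hi⟩ := Function.ne_iff.1 hJd
            obtain ⟨c, hc⟩ := exists_notMem (F := F)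
            have hu : (Pi.single i (c / (J *ᵥ d) i) : w → F) ⬝ᵥ (J *ᵥ d) = c := by
              rw [single_dotProduct, div_mul_cancel₀ _ (by simpa using hi)]
            set u₀ : w → F := Pi.single i (c / (J *ᵥ d) i)
            have hs : ∑ u : w → F, asChar (u ⬝ᵥ (J *ᵥ d)) = -∑ u : w → F, asChar (u ⬝ᵥ (J *ᵥ d)) := by
              rw [← Finset.sum_neg_distrib]
              conv_lhs => rw [← Equiv.sum_comp (Equiv.addLeft u₀) fun u => asChar (u ⬝ᵥ (J *ᵥ d))]
              refine Finset.sum_congr rfl fun u _ => ?_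
              simp only [Equiv.coe_addLeft]
              rw [add_dotProduct, asChar_add, hu, asChar, if_neg hc, neg_one_mul]
            rw [show ∑ u : w → F, asChar (u ⬝ᵥ (J *ᵥ d)) = 0 by omega, mul_zero]
          · simp
  rw [h0, zero_mul] at h
  exact Fintype.card_ne_zero (by exact_mod_cast h.symm)

/-- `Q ∘ D + Q = f(D ·, k)²` with `D` symplectic forces `Q k ∈ asImage F`. -/
theorem shift_mem_asImage (hJd : IsUnit J.det) (hJ : Jᵀ = J) (hJz : ∀ i, J i i = 0)
    {D : Matrix w w F} (hD : Dᵀ * J * D = J) (k : w → F)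
    (hk : ∀ j, ((Dᵀ * J) *ᵥ k) j ^ 2 + (Dᵀ * H * D) j j = H j j) :
    k ⬝ᵥ (H *ᵥ k) ∈ asImage F := by
  classical
  haveI := Fintype.ofFinite F
  have hDd : IsUnit D.det := by
    rw [← hD, Matrix.det_mul] at hJd
    exact isUnit_of_mul_isUnit_right hJd
  have hs : (Dᵀ * H * D + H)ᵀ = Dᵀ * H * D + H := by
    rw [← add_eq_zero_iff, Matrix.transpose_add,
      show ((Dᵀ * H * D)ᵀ + Hᵀ) + (Dᵀ * H * D + H) = (Dᵀ * H * D + (Dᵀ * H * D)ᵀ) + (H + Hᵀ) by abel,
      hH]
    simp only [Matrix.transpose_mul, Matrix.transpose_transpose, ← Matrix.mul_assoc]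
    rw [← Matrix.add_mul, ← Matrix.mul_add, hH, hD, add_self]
  have hq : ∀ v, v ⬝ᵥ (H *ᵥ v) = (D *ᵥ v) ⬝ᵥ (H *ᵥ (D *ᵥ v)) + ((D *ᵥ v) ⬝ᵥ (J *ᵥ k)) ^ 2 := by
    intro v
    have h1 := quad_symm hs v
    rw [Matrix.add_mulVec, dotProduct_add, ← Matrix.mulVec_mulVec, ← Matrix.mulVec_mulVec,
      Matrix.dotProduct_mulVec v Dᵀ, Matrix.vecMul_transpose] at h1
    have h2 : dvec (Dᵀ * H * D + H) = (Dᵀ * J) *ᵥ k := funext fun j => sq_inj (by
      rw [dvec, rt_sq, Matrix.add_apply, ← hk j,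
        show (Dᵀ * H * D) j j + (((Dᵀ * J) *ᵥ k) j ^ 2 + (Dᵀ * H * D) j j) =
          ((Dᵀ * J) *ᵥ k) j ^ 2 + ((Dᵀ * H * D) j j + (Dᵀ * H * D) j j) by ring,
        CharTwo.add_self_eq_zero, add_zero])
    rw [h2, ← Matrix.mulVec_mulVec, Matrix.dotProduct_mulVec v Dᵀ, Matrix.vecMul_transpose] at h1
    rw [← h1, ← add_assoc, CharTwo.add_self_eq_zero, zero_add]
  let eD : (w → F) ≃ (w → F) := Equiv.ofBijective _ (Finite.injective_iff_bijective.1
    (Matrix.mulVec_injective_of_isUnit ((Matrix.isUnit_iff_isUnit_det _).2 hDd)))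
  have hG : ∑ v : w → F, asChar (v ⬝ᵥ (H *ᵥ v)) =
      asChar (k ⬝ᵥ (H *ᵥ k)) * ∑ v : w → F, asChar (v ⬝ᵥ (H *ᵥ v)) := by
    calc ∑ v : w → F, asChar (v ⬝ᵥ (H *ᵥ v))
        = ∑ v : w → F, asChar (eD v ⬝ᵥ (H *ᵥ eD v) + (eD v ⬝ᵥ (J *ᵥ k)) ^ 2) :=
          Finset.sum_congr rfl fun v _ => by rw [hq v]; rfl
      _ = ∑ u : w → F, asChar (u ⬝ᵥ (H *ᵥ u) + (u ⬝ᵥ (J *ᵥ k)) ^ 2) :=
          eD.sum_comp (fun u : w → F => asChar (u ⬝ᵥ (H *ᵥ u) + (u ⬝ᵥ (J *ᵥ k)) ^ 2))
      _ = ∑ u : w → F, asChar (k ⬝ᵥ (H *ᵥ k)) * asChar ((u + k) ⬝ᵥ (H *ᵥ (u + k))) :=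
          Finset.sum_congr rfl fun u _ => by
            rw [quad_add hH, ← asChar_add, asChar_add, asChar_sq, ← asChar_add]
            congr 1
            have h2 : (2 : F) = 0 := CharTwo.two_eq_zero
            linear_combination (-(k ⬝ᵥ (H *ᵥ k))) * h2
      _ = asChar (k ⬝ᵥ (H *ᵥ k)) * ∑ v : w → F, asChar (v ⬝ᵥ (H *ᵥ v)) := by
          rw [← Finset.mul_sum]
          exact congrArg _ (Equiv.sum_comp (Equiv.addRight k) fun v => asChar (v ⬝ᵥ (H *ᵥ v)))
  by_contra hm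
  rw [asChar, if_neg hm, neg_one_mul] at hG
  exact gauss_ne_zero hH hJd (by omega)

omit hH in
/-- Matrices with a prescribed value at a non-zero vector. -/
theorem card_mulVec_fiber {r : Type*} [Fintype r] [DecidableEq r] {e : r → F} (he : e ≠ 0)
    (k : w → F) :
    Nat.card {K : Matrix w r F // K *ᵥ e = k} * Nat.card F ^ Fintype.card w =
      Nat.card F ^ (Fintype.card w * Fintype.card r) := by
  obtain ⟨o, ho⟩ := Function.ne_iff.1 he
  simp only [Pi.zero_apply] at ho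
  let φ : Matrix w r F →+ (w → F) :=
    { toFun := fun K => K *ᵥ e
      map_zero' := Matrix.zero_mulVec e
      map_add' := fun K K' => Matrix.add_mulVec K K' e }
  have hs : Function.Surjective φ := fun v => ⟨Matrix.of fun i j => if j = o then v i / e o else 0, by
    funext i
    show (_ *ᵥ e) i = v i
    simp [Matrix.mulVec, dotProduct, ho]⟩
  obtain ⟨K₀, hK₀⟩ := hs k
  have e1 : {K : Matrix w r F // K *ᵥ e = k} ≃ φ.ker :=
    { toFun := fun K => ⟨K.1 - K₀, by
        rw [AddMonoidHom.mem_ker, map_sub, hK₀]; exact sub_eq_zero.2 K.2⟩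
      invFun := fun K => ⟨K.1 + K₀, show φ (K.1 + K₀) = k by
        rw [map_add, AddMonoidHom.mem_ker.1 K.2, zero_add, hK₀]⟩
      left_inv := fun K => Subtype.ext (sub_add_cancel _ _)
      right_inv := fun K => Subtype.ext (add_sub_cancel_right _ _) }
  have h := φ.ker.index_mul_card
  rw [AddSubgroup.index_ker, AddMonoidHom.range_eq_top.2 hs, AddSubgroup.card_top] at h
  rw [Nat.card_congr e1, mul_comm]
  simpa [Matrix, Nat.card_fun, Nat.card_eq_fintype_card (α := w), Nat.card_eq_fintype_card (α := r),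
    ← pow_mul, mul_comm] using h

omit hH in
/-- The non-alternating case. -/
theorem card_centSetQ {r : Type*} [Fintype r] [DecidableEq r] {B : Matrix r r F} (hB : Bᵀ = B)
    (hBd : IsUnit B.det) (hJ : Jᵀ = J) (hJz : ∀ i, J i i = 0) (hJd : IsUnit J.det)
    (hH : H + Hᵀ = J) (C : Matrix r r F) (hC : Cᵀ = C) (hBne : ∃ i, B i i ≠ 0) :
    Nat.card (CentSetQ B J H C) * Nat.card F ^ Fintype.card w * Nat.card F ^ Fintype.card r =
      Nat.card (IsoSet B) * Nat.card (IsoSet J) *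
        Nat.card F ^ (Fintype.card w * Fintype.card r) *
          (2 * Nat.card F ^ (Fintype.card r + 1).choose 2) := by
  classical
  have hd : dvec B ≠ 0 := by
    obtain ⟨i, hi⟩ := hBne
    exact fun h => hi (by rw [← rt_sq (B i i), show rt (B i i) = 0 from congrFun h i]; simp)
  have he : B⁻¹ *ᵥ dvec B ≠ 0 := fun h => hd (by
    have := congrArg (B *ᵥ ·) h
    simpa [Matrix.mulVec_mulVec, Matrix.mul_nonsing_inv _ hBd] using this)
  set e := B⁻¹ *ᵥ dvec B with hedef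
  have hDu : ∀ D : IsoSet J, IsUnit (D.1ᵀ * J).det := fun D => by
    have h := hJd
    rw [← D.2, Matrix.det_mul] at h
    exact isUnit_of_mul_isUnit_left h
  let kf : IsoSet J → (w → F) := fun D =>
    (D.1ᵀ * J)⁻¹ *ᵥ fun j => rt ((D.1ᵀ * H * D.1) j j + H j j)
  have hkf : ∀ (D : IsoSet J) (v : w → F),
      (∀ j, ((D.1ᵀ * J) *ᵥ v) j ^ 2 + (D.1ᵀ * H * D.1) j j = H j j) ↔ v = kf D := by
    intro D v
    constructor
    · intro h
      have h1 : (D.1ᵀ * J) *ᵥ v = fun j => rt ((D.1ᵀ * H * D.1) j j + H j j) := funext fun j => sq_inj (by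
        rw [rt_sq, ← h j,
          show (D.1ᵀ * H * D.1) j j + (((D.1ᵀ * J) *ᵥ v) j ^ 2 + (D.1ᵀ * H * D.1) j j) =
            ((D.1ᵀ * J) *ᵥ v) j ^ 2 + ((D.1ᵀ * H * D.1) j j + (D.1ᵀ * H * D.1) j j) by ring,
          CharTwo.add_self_eq_zero, add_zero])
      simp only [kf, ← h1, Matrix.mulVec_mulVec, Matrix.nonsing_inv_mul _ (hDu D), Matrix.one_mulVec]
    · rintro rfl j
      simp only [kf, Matrix.mulVec_mulVec, Matrix.mul_nonsing_inv _ (hDu D), Matrix.one_mulVec, rt_sq]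
      rw [show (D.1ᵀ * H * D.1) j j + H j j + (D.1ᵀ * H * D.1) j j =
        H j j + ((D.1ᵀ * H * D.1) j j + (D.1ᵀ * H * D.1) j j) by ring, CharTwo.add_self_eq_zero, add_zero]
  let T := {x : IsoSet B × IsoSet J × Matrix w r F // x.2.2 *ᵥ e = kf x.2.1}
  have e1 : (Σ x : IsoSet B × IsoSet J × Matrix w r F, {Y : symMat r F //
        (∀ j, ((x.2.1.1ᵀ * J) *ᵥ (x.2.2 *ᵥ e)) j ^ 2 +
          (x.2.1.1ᵀ * H * x.2.1.1) j j = H j j) ∧
        symPhi e Y = fun i =>
          ((half J x.2.2)ᵀ *ᵥ e) i ^ 2 +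
            (half J x.2.2 + x.2.2ᵀ * H * x.2.2) i i + (x.1.1ᵀ * C * x.1.1) i i + C i i}) ≃
      Σ x : T, {Y : symMat r F // symPhi e Y = fun i =>
        ((half J x.1.2.2)ᵀ *ᵥ e) i ^ 2 +
          (half J x.1.2.2 + x.1.2.2ᵀ * H * x.1.2.2) i i + (x.1.1.1ᵀ * C * x.1.1.1) i i + C i i} :=
    { toFun := fun p => ⟨⟨p.1, (hkf _ _).1 p.2.2.1⟩, p.2.1, p.2.2.2⟩
      invFun := fun p => ⟨p.1.1, p.2.1, (hkf _ _).2 p.1.2, p.2.2⟩
      left_inv := fun p => rfl
      right_inv := fun p => rfl }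
  haveI := Fintype.ofFinite T
  have hfib : ∀ x : T, Nat.card {Y : symMat r F // symPhi e Y = fun i =>
        ((half J x.1.2.2)ᵀ *ᵥ e) i ^ 2 +
          (half J x.1.2.2 + x.1.2.2ᵀ * H * x.1.2.2) i i + (x.1.1.1ᵀ * C * x.1.1.1) i i + C i i} *
      Nat.card F ^ Fintype.card r = 2 * Nat.card F ^ (Fintype.card r + 1).choose 2 := fun x => by
    refine card_fiber he ?_
    refine eSum_const_mem hJ hH C hJz e (mulVec_distinguished hB hBd x.1.1.2) hC x.1.2.2 ?_
    rw [x.2]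
    exact shift_mem_asImage hH hJd hJ hJz x.1.2.1.2 (kf x.1.2.1) ((hkf _ _).2 rfl)
  have eT : T ≃ IsoSet B × Σ D : IsoSet J, {K : Matrix w r F // K *ᵥ e = kf D} :=
    { toFun := fun x => (x.1.1, ⟨x.1.2.1, x.1.2.2, x.2⟩)
      invFun := fun y => ⟨(y.1, y.2.1, y.2.2.1), y.2.2.2⟩
      left_inv := fun x => rfl
      right_inv := fun y => rfl }
  haveI := Fintype.ofFinite (IsoSet J)
  rw [card_quad_data hB hBd hJ hJz hH C hC, Nat.card_congr e1, Nat.card_sigma, mul_right_comm,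
    Finset.sum_mul, Finset.sum_congr rfl fun x _ => hfib x, Finset.sum_const, smul_eq_mul,
    Finset.card_univ, ← Nat.card_eq_fintype_card, Nat.card_congr eT, Nat.card_prod, Nat.card_sigma,
    mul_right_comm, mul_assoc (Nat.card (IsoSet B)), Finset.sum_mul,
    Finset.sum_congr rfl fun D _ => card_mulVec_fiber he (kf D), Finset.sum_const, smul_eq_mul,
    Finset.card_univ, ← Nat.card_eq_fintype_card]
  ring

end Cfsg.Agent.InvCentralizer
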