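import Cfsg.Agent.Lib.InvCentralizer.Basic

/-!
# Centraliser of an involution in characteristic two, block model

On `F^(r ⊕ w ⊕ r)` with Gram matrix `gram B J` and nilpotent part `nil`:
* `IsoSet S` : `{X | Xᵀ S X = S}`
* `card_centSet` : `|C_Sp| = |O(B)| |Sp(J)| q^(|w| s) q^(s(s+1)/2)`
* `card_centSetQ_alt`, `card_centSetQ` : the same inside the orthogonal group of `quadMat B H C`
-/

set_option autoImplicit false
set_option linter.unusedSectionVars false

namespace Cfsg.Agent.InvCentralizer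

open Matrix

variable {F : Type*} [Field F] [CharP F 2] [Finite F]
variable {r w : Type*} [Fintype r] [DecidableEq r] [Fintype w] [DecidableEq w]

/-- The isometries of a bilinear form. -/
abbrev IsoSet {n : Type*} [Fintype n] (S : Matrix n n F) : Type _ :=
  {X : Matrix n n F // Xᵀ * S * X = S}

/-- Gram matrix in adapted coordinates. -/
def gram (B : Matrix r r F) (J : Matrix w w F) : Matrix (r ⊕ w ⊕ r) (r ⊕ w ⊕ r) F :=
  bm 0 0 B 0 J 0 B 0 0

/-- `t - 1` in adapted coordinates. -/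
def nil : Matrix (r ⊕ w ⊕ r) (r ⊕ w ⊕ r) F := bm 0 0 1 0 0 0 0 0 0

/-- Centraliser in the symplectic group. -/
abbrev CentSet (B : Matrix r r F) (J : Matrix w w F) : Type _ :=
  {g : Matrix (r ⊕ w ⊕ r) (r ⊕ w ⊕ r) F //
    gᵀ * gram B J * g = gram B J ∧ g * nil = nil * g}

/-- The matrix of the quadratic form. -/
def quadMat (B : Matrix r r F) (H : Matrix w w F) (C : Matrix r r F) :
    Matrix (r ⊕ w ⊕ r) (r ⊕ w ⊕ r) F :=
  bm B 0 B 0 H 0 0 0 C

/-- Centraliser in the orthogonal group. -/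
abbrev CentSetQ (B : Matrix r r F) (J H : Matrix w w F) (C : Matrix r r F) : Type _ :=
  {g : CentSet B J // ∀ i, (g.1ᵀ * quadMat B H C * g.1) i i = quadMat B H C i i}

variable {B : Matrix r r F} {J : Matrix w w F}

theorem centSet_iff (g : Matrix (r ⊕ w ⊕ r) (r ⊕ w ⊕ r) F) (hB : Bᵀ = B) :
    (gᵀ * gram B J * g = gram B J ∧ g * nil = nil * g) ↔
      ∃ A P S D K, g = bm A P S 0 D K 0 0 A ∧ Aᵀ * B * A = B ∧ Dᵀ * J * D = J ∧
        Dᵀ * J * K + Pᵀ * B * A = 0 ∧ Sᵀ * B * A + Kᵀ * J * K + Aᵀ * B * S = 0 ∧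
        Kᵀ * J * D + Aᵀ * B * P = 0 := by
  constructor
  · rintro ⟨h1, h2⟩
    obtain ⟨A, P, S, g21, D, K, g31, g32, g33, rfl⟩ := exists_bm g
    rw [nil, bm_mul, bm_mul, bm_inj] at h2
    simp only [Matrix.mul_zero, Matrix.zero_mul, Matrix.mul_one, Matrix.one_mul, add_zero,
      zero_add] at h2
    obtain ⟨⟨h31, h32, hA⟩, ⟨-, -, h21⟩, -, -, -⟩ := h2
    subst h21 hA
    obtain rfl : g31 = 0 := h31.symm
    obtain rfl : g32 = 0 := h32.symm
    rw [gram, bm_transpose, bm_mul, bm_mul, bm_inj] at h1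
    simp only [Matrix.mul_zero, Matrix.zero_mul, Matrix.transpose_zero, add_zero, zero_add] at h1
    obtain ⟨⟨-, -, ha⟩, ⟨-, hd, h23⟩, -, h32', h33⟩ := h1
    refine ⟨_, _, _, _, _, rfl, ha, hd, ?_, ?_, ?_⟩
    · first | exact h23 | (rw [← h23]; abel)
    · rw [← h33]; abel
    · rw [← h32']; abel
  · rintro ⟨A, P, S, D, K, rfl, ha, hd, h23, h33, h32⟩
    constructor
    · rw [gram, bm_transpose, bm_mul, bm_mul, bm_inj]
      simp only [Matrix.mul_zero, Matrix.zero_mul, Matrix.transpose_zero, add_zero, zero_add]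
      refine ⟨⟨trivial, trivial, ha⟩, ⟨trivial, hd, ?_⟩, ha, ?_, ?_⟩
      · first | exact h23 | (rw [← h23]; abel)
      · first | exact h32 | (rw [← h32]; abel)
      · first | exact h33 | (rw [← h33]; abel)
    · rw [nil, bm_mul, bm_mul, bm_inj]
      simp

section Fixed

variable (hB : Bᵀ = B) (hBd : IsUnit B.det) {A : Matrix r r F} (hA : Aᵀ * B * A = B)
include hB hBd hA

theorem isUnit_det_AB : IsUnit (Aᵀ * B).det := by
  rw [← hA, Matrix.det_mul] at hBd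
  exact isUnit_of_mul_isUnit_left hBd

/-- The distinguished vector is fixed. -/
theorem mulVec_distinguished : A *ᵥ (B⁻¹ *ᵥ dvec B) = B⁻¹ *ᵥ dvec B := by
  have h1 : Aᵀ *ᵥ dvec B = dvec B := by
    funext i
    refine sq_inj ?_
    rw [← diag_conj hB, hA, dvec, rt_sq]
  have hu := isUnit_det_AB hB hBd hA
  have h2 : (Aᵀ * B) *ᵥ (A *ᵥ (B⁻¹ *ᵥ dvec B)) = (Aᵀ * B) *ᵥ (B⁻¹ *ᵥ dvec B) := by
    rw [Matrix.mulVec_mulVec, hA, Matrix.mulVec_mulVec, Matrix.mul_nonsing_inv _ hBd,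
      Matrix.one_mulVec, Matrix.mulVec_mulVec, Matrix.mul_assoc, Matrix.mul_nonsing_inv _ hBd,
      Matrix.mul_one, h1]
  exact Matrix.mulVec_injective_of_isUnit ((Matrix.isUnit_iff_isUnit_det _).2 hu) h2

end Fixed

/-- A choice of `M` with `M + Mᵀ = Kᵀ J K`. -/
noncomputable def half (J : Matrix w w F) (K : Matrix w r F) : Matrix r r F :=
  Classical.epsilon fun M => M + Mᵀ = Kᵀ * J * K

theorem half_spec (hJ : Jᵀ = J) (hJd : ∀ i, J i i = 0) (K : Matrix w r F) :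
    half J K + (half J K)ᵀ = Kᵀ * J * K := by
  refine Classical.epsilon_spec (exists_half ?_ fun i => ?_)
  · simp [Matrix.transpose_mul, hJ, Matrix.mul_assoc]
  · rw [diag_conj hJ]
    have : dvec J = 0 := funext fun j => sq_inj (by rw [dvec, rt_sq, hJd]; simp)
    simp [this]

/-- The element with data `(A, D, K, Y)`. -/
noncomputable def build (B : Matrix r r F) (J : Matrix w w F)
    (d : IsoSet B × IsoSet J × Matrix w r F × symMat r F) :
    Matrix (r ⊕ w ⊕ r) (r ⊕ w ⊕ r) F :=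
  bm d.1.1 ((d.1.1ᵀ * B)⁻¹ * (d.2.2.1ᵀ * J * d.2.1.1))
    ((d.1.1ᵀ * B)⁻¹ * (half J d.2.2.1 + d.2.2.2.1)) 0 d.2.1.1 d.2.2.1 0 0 d.1.1

variable (hB : Bᵀ = B) (hBd : IsUnit B.det) (hJ : Jᵀ = J) (hJd : ∀ i, J i i = 0)
include hB hBd hJ hJd

theorem build_mem (d : IsoSet B × IsoSet J × Matrix w r F × symMat r F) :
    (build B J d)ᵀ * gram B J * build B J d = gram B J ∧ build B J d * nil = nil * build B J d := by
  obtain ⟨⟨A, hA⟩, ⟨D, hD⟩, K, Y, hY⟩ := d
  have hu := isUnit_det_AB hB hBd hA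
  set P := (Aᵀ * B)⁻¹ * (Kᵀ * J * D) with hP
  set S := (Aᵀ * B)⁻¹ * (half J K + Y) with hS
  have hAP : Aᵀ * B * P = Kᵀ * J * D := by rw [hP, Matrix.mul_nonsing_inv_cancel_left _ _ hu]
  have hAS : Aᵀ * B * S = half J K + Y := by rw [hS, Matrix.mul_nonsing_inv_cancel_left _ _ hu]
  refine (centSet_iff _ hB).2 ⟨A, P, S, D, K, rfl, hA, hD, ?_, ?_, ?_⟩
  · have := congrArg Matrix.transpose hAP
    simp only [Matrix.transpose_mul, Matrix.transpose_transpose, hB, hJ, ← Matrix.mul_assoc] at this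
    rw [this, add_self]
  · have h := congrArg Matrix.transpose hAS
    simp only [Matrix.transpose_mul, Matrix.transpose_transpose, hB, Matrix.transpose_add,
      ← Matrix.mul_assoc, mem_symMat.1 hY] at h
    rw [h, hAS, ← half_spec hJ hJd K,
      show (half J K)ᵀ + Y + (half J K + (half J K)ᵀ) + (half J K + Y) =
        (half J K + (half J K)ᵀ + Y) + (half J K + (half J K)ᵀ + Y) by abel, add_self]
  · rw [hAP, add_self]

theorem build_bijective :
    Function.Bijective fun d => (⟨build B J d, build_mem hB hBd hJ hJd d⟩ : CentSet B J) := by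
  constructor
  · rintro ⟨⟨A, hA⟩, ⟨D, hD⟩, K, Y⟩ ⟨⟨A', hA'⟩, ⟨D', hD'⟩, K', Y'⟩ h
    have h' := congrArg Subtype.val h
    simp only [build, bm_inj] at h'
    obtain ⟨⟨rfl, -, hS⟩, ⟨-, rfl, rfl⟩, -⟩ := h'
    have hu := isUnit_det_AB hB hBd hA
    have := congrArg ((Aᵀ * B) * ·) hS
    simp only [Matrix.mul_nonsing_inv_cancel_left _ _ hu, add_right_inj] at this
    simp [Subtype.ext this]
  · rintro ⟨g, hg⟩
    obtain ⟨A, P, S, D, K, rfl, hA, hD, h23, h33, h32⟩ := (centSet_iff g hB).1 hg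
    have hu := isUnit_det_AB hB hBd hA
    have hY : (Aᵀ * B * S + half J K)ᵀ = Aᵀ * B * S + half J K := by
      rw [← add_eq_zero_iff, ← h33, ← half_spec hJ hJd K, Matrix.transpose_add]
      simp only [Matrix.transpose_mul, Matrix.transpose_transpose, hB, ← Matrix.mul_assoc]
      abel
    refine ⟨(⟨A, hA⟩, ⟨D, hD⟩, K, ⟨_, hY⟩), Subtype.ext ?_⟩
    simp only [build, bm_inj]
    refine ⟨⟨trivial, ?_, ?_⟩, ⟨trivial, trivial, trivial⟩, trivial, trivial, trivial⟩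
    · rw [add_eq_zero_iff.1 h32, Matrix.nonsing_inv_mul_cancel_left _ _ hu]
    · rw [show half J K + (Aᵀ * B * S + half J K) = Aᵀ * B * S + (half J K + half J K) by abel,
        add_self, add_zero, Matrix.nonsing_inv_mul_cancel_left _ _ hu]

/-- Order of the centraliser in the symplectic group. -/
theorem card_centSet : Nat.card (CentSet B J) = Nat.card (IsoSet B) * Nat.card (IsoSet J) *
    Nat.card F ^ (Fintype.card w * Fintype.card r) *
      Nat.card F ^ (Fintype.card r + 1).choose 2 := by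
  rw [← Nat.card_congr (Equiv.ofBijective _ (build_bijective hB hBd hJ hJd)), Nat.card_prod,
    Nat.card_prod, Nat.card_prod, card_symMat]
  simp [Nat.card_fun, Matrix, Nat.card_eq_fintype_card, ← pow_mul, mul_assoc, mul_comm]
  ring

variable {H : Matrix w w F} (hH : H + Hᵀ = J) (C : Matrix r r F) (hC : Cᵀ = C)
include hH hC

omit hBd hJd in
theorem quadMat_symm : quadMat B H C + (quadMat B H C)ᵀ = gram B J := by
  rw [quadMat, bm_transpose, bm_add, gram, bm_inj]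
  simp [hB, hC, add_self, hH]

/-- The conditions on the data for membership in the orthogonal group. -/
theorem build_quad_iff (d : IsoSet B × IsoSet J × Matrix w r F × symMat r F) :
    (∀ i, ((build B J d)ᵀ * quadMat B H C * build B J d) i i = quadMat B H C i i) ↔
      (∀ j, ((d.2.1.1ᵀ * J) *ᵥ (d.2.2.1 *ᵥ (B⁻¹ *ᵥ dvec B))) j ^ 2 +
          (d.2.1.1ᵀ * H * d.2.1.1) j j = H j j) ∧
      symPhi (B⁻¹ *ᵥ dvec B) d.2.2.2 = fun i =>
        ((half J d.2.2.1)ᵀ *ᵥ (B⁻¹ *ᵥ dvec B)) i ^ 2 +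
          (half J d.2.2.1 + d.2.2.1ᵀ * H * d.2.2.1) i i + (d.1.1ᵀ * C * d.1.1) i i + C i i := by
  obtain ⟨⟨A, hA⟩, ⟨D, hD⟩, K, Y, hY⟩ := d
  have hu := isUnit_det_AB hB hBd hA
  have hfix := mulVec_distinguished hB hBd hA
  set e := B⁻¹ *ᵥ dvec B with he
  have hBe : B *ᵥ e = dvec B := by
    rw [he, Matrix.mulVec_mulVec, Matrix.mul_nonsing_inv _ hBd, Matrix.one_mulVec]
  have hBAe : (B * A) *ᵥ e = dvec B := by rw [← Matrix.mulVec_mulVec, hfix, hBe]
  clear_value e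
  set P := (Aᵀ * B)⁻¹ * (Kᵀ * J * D) with hP
  set S := (Aᵀ * B)⁻¹ * (half J K + Y) with hS
  have hPe : Pᵀ *ᵥ dvec B = (Dᵀ * J) *ᵥ (K *ᵥ e) := by
    have hAP : Aᵀ * B * P = Kᵀ * J * D := by rw [hP, Matrix.mul_nonsing_inv_cancel_left _ _ hu]
    have := congrArg Matrix.transpose hAP
    simp only [Matrix.transpose_mul, Matrix.transpose_transpose, hB, hJ] at this
    rw [← hBAe, Matrix.mulVec_mulVec, this, Matrix.mulVec_mulVec, Matrix.mul_assoc]
  have hAS : Aᵀ * B * S = half J K + Y := by rw [hS, Matrix.mul_nonsing_inv_cancel_left _ _ hu]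
  have hSA : Sᵀ * B * A = (half J K)ᵀ + Y := by
    have := congrArg Matrix.transpose hAS
    simpa only [Matrix.transpose_mul, Matrix.transpose_transpose, hB, Matrix.transpose_add,
      mem_symMat.1 hY, ← Matrix.mul_assoc] using this
  have hSe : Sᵀ *ᵥ dvec B = ((half J K)ᵀ + Y) *ᵥ e := by
    rw [← hBAe, Matrix.mulVec_mulVec, ← Matrix.mul_assoc, hSA]
  have hb : build B J (⟨A, hA⟩, ⟨D, hD⟩, K, ⟨Y, hY⟩) = bm A P S 0 D K 0 0 A := rfl
  rw [hb, quadMat, bm_transpose, bm_mul, bm_mul]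
  simp only [Matrix.mul_zero, Matrix.zero_mul, Matrix.transpose_zero, add_zero, zero_add, hA]
  simp only [Sum.forall, bm, Matrix.of_apply, Matrix.add_apply, Matrix.add_mul, Matrix.mul_add,
    diag_conj hB, hPe, hSe, hSA, funext_iff, Matrix.transpose_apply, implies_true, true_and]
  refine and_congr Iff.rfl (forall_congr' fun i => ?_)
  show _ ↔ (Y *ᵥ e) i ^ 2 + Y i i = _
  rw [Matrix.add_mulVec, Pi.add_apply, CharTwo.add_sq]
  set m := ((half J K)ᵀ *ᵥ e) i ^ 2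
  set y := (Y *ᵥ e) i ^ 2
  set a := (Aᵀ * C * A) i i
  set k := (Kᵀ * H * K) i i
  set h := half J K i i
  have h2 : (2 : F) = 0 := CharTwo.two_eq_zero
  constructor <;> intro heq
  · linear_combination heq + (-m - h - a - k) * h2
  · linear_combination heq + (m + h + a + k) * h2

omit hB hBd hJd hC in
/-- Solvability. -/
theorem eSum_const_mem (hJd : ∀ i, J i i = 0) {A : Matrix r r F} (e : r → F) (hfix : A *ᵥ e = e)
    (hC : Cᵀ = C) (K : Matrix w r F) (hk : (K *ᵥ e) ⬝ᵥ (H *ᵥ (K *ᵥ e)) ∈ asImage F) :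
    eSum e (fun i => ((half J K)ᵀ *ᵥ e) i ^ 2 +
      (half J K + Kᵀ * H * K) i i + (Aᵀ * C * A) i i + C i i) ∈ asImage F := by
  have hsum : ∀ (S : Matrix r r F), Sᵀ = S → ∑ i, e i ^ 2 * S i i = e ⬝ᵥ (S *ᵥ e) := fun S hS => by
    rw [dotProduct_symm hS]
    exact Finset.sum_congr rfl fun i _ => mul_comm _ _
  have hW : (half J K + Kᵀ * H * K)ᵀ = half J K + Kᵀ * H * K := by
    rw [← add_eq_zero_iff, Matrix.transpose_add]
    simp only [Matrix.transpose_mul, Matrix.transpose_transpose, ← Matrix.mul_assoc]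
    rw [show (half J K)ᵀ + Kᵀ * Hᵀ * K + (half J K + Kᵀ * H * K) =
      (half J K + (half J K)ᵀ) + (Kᵀ * H * K + Kᵀ * Hᵀ * K) by abel, half_spec hJ hJd,
      ← Matrix.add_mul, ← Matrix.mul_add, hH, add_self]
  have hquad : ∀ (X : Matrix w r F) (M : Matrix w w F),
      e ⬝ᵥ ((Xᵀ * M * X) *ᵥ e) = (X *ᵥ e) ⬝ᵥ (M *ᵥ (X *ᵥ e)) := fun X M => by
    rw [← Matrix.mulVec_mulVec, ← Matrix.mulVec_mulVec, Matrix.dotProduct_mulVec,
      Matrix.vecMul_transpose]
  have hA : e ⬝ᵥ ((Aᵀ * C * A) *ᵥ e) = e ⬝ᵥ (C *ᵥ e) := by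
    rw [← Matrix.mulVec_mulVec, ← Matrix.mulVec_mulVec, hfix, Matrix.dotProduct_mulVec,
      Matrix.vecMul_transpose, hfix]
  have hu : ∑ i, e i ^ 2 * ((half J K)ᵀ *ᵥ e) i ^ 2 = (e ⬝ᵥ (half J K *ᵥ e)) ^ 2 := by
    rw [Matrix.dotProduct_mulVec, ← Matrix.mulVec_transpose, dotProduct, CharTwo.sum_sq]
    exact Finset.sum_congr rfl fun i _ => by ring
  rw [eSum_apply]
  simp only [mul_add, Finset.sum_add_distrib]
  rw [hu, hsum _ hW, hsum _ (by simp [Matrix.transpose_mul, hC, Matrix.mul_assoc]), hsum _ hC, hA,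
    add_assoc, CharTwo.add_self_eq_zero, add_zero, Matrix.add_mulVec, dotProduct_add, hquad,
    ← add_assoc]
  exact add_mem ⟨_, rfl⟩ hk

theorem card_quad_data :
    Nat.card (CentSetQ B J H C) =
      Nat.card (Σ x : IsoSet B × IsoSet J × Matrix w r F, {Y : symMat r F //
        (∀ j, ((x.2.1.1ᵀ * J) *ᵥ (x.2.2 *ᵥ (B⁻¹ *ᵥ dvec B))) j ^ 2 +
          (x.2.1.1ᵀ * H * x.2.1.1) j j = H j j) ∧
        symPhi (B⁻¹ *ᵥ dvec B) Y = fun i =>
          ((half J x.2.2)ᵀ *ᵥ (B⁻¹ *ᵥ dvec B)) i ^ 2 +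
            (half J x.2.2 + x.2.2ᵀ * H * x.2.2) i i + (x.1.1ᵀ * C * x.1.1) i i + C i i}) := by
  rw [← Nat.card_congr (Equiv.subtypeEquiv (Equiv.ofBijective _ (build_bijective hB hBd hJ hJd))
    (fun d => (build_quad_iff hB hBd hJ hJd hH C hC d).symm))]
  exact Nat.card_congr
    { toFun := fun d => ⟨(d.1.1, d.1.2.1, d.1.2.2.1), d.1.2.2.2, d.2⟩
      invFun := fun x => ⟨(x.1.1, x.1.2.1, x.1.2.2, x.2.1), x.2.2⟩
      left_inv := fun d => rfl
      right_inv := fun x => rfl }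

/-- The alternating case. -/
theorem card_centSetQ_alt (hBz : ∀ i, B i i = 0) :
    Nat.card (CentSetQ B J H C) * Nat.card F ^ Fintype.card r =
      Nat.card (IsoSet B) * Nat.card {D : IsoSet J // ∀ j, (D.1ᵀ * H * D.1) j j = H j j} *
        Nat.card F ^ (Fintype.card w * Fintype.card r) *
          Nat.card F ^ (Fintype.card r + 1).choose 2 := by
  classical
  have he : B⁻¹ *ᵥ dvec B = 0 := by
    have : dvec B = 0 := funext fun j => sq_inj (by rw [dvec, rt_sq, hBz]; simp)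
    rw [this, Matrix.mulVec_zero]
  let T := {x : IsoSet B × IsoSet J × Matrix w r F // ∀ j, (x.2.1.1ᵀ * H * x.2.1.1) j j = H j j}
  have e : (Σ x : IsoSet B × IsoSet J × Matrix w r F, {Y : symMat r F //
        (∀ j, ((x.2.1.1ᵀ * J) *ᵥ (x.2.2 *ᵥ (B⁻¹ *ᵥ dvec B))) j ^ 2 +
          (x.2.1.1ᵀ * H * x.2.1.1) j j = H j j) ∧
        symPhi (B⁻¹ *ᵥ dvec B) Y = fun i =>
          ((half J x.2.2)ᵀ *ᵥ (B⁻¹ *ᵥ dvec B)) i ^ 2 +
            (half J x.2.2 + x.2.2ᵀ * H * x.2.2) i i + (x.1.1ᵀ * C * x.1.1) i i + C i i}) ≃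
      Σ x : T, {Y : symMat r F // symPhi (0 : r → F) Y = fun i =>
        (half J x.1.2.2 + x.1.2.2ᵀ * H * x.1.2.2) i i + (x.1.1.1ᵀ * C * x.1.1.1) i i + C i i} :=
    { toFun := fun p => ⟨⟨p.1, fun j => by simpa [he] using p.2.2.1 j⟩, p.2.1,
        by simpa [he] using p.2.2.2⟩
      invFun := fun p => ⟨p.1.1, p.2.1, fun j => by simpa [he] using p.1.2 j,
        by simpa [he] using p.2.2⟩
      left_inv := fun p => rfl
      right_inv := fun p => rfl }
  haveI := Fintype.ofFinite T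
  have eT : T ≃ IsoSet B × {D : IsoSet J // ∀ j, (D.1ᵀ * H * D.1) j j = H j j} × Matrix w r F :=
    { toFun := fun x => (x.1.1, ⟨x.1.2.1, x.2⟩, x.1.2.2)
      invFun := fun y => ⟨(y.1, y.2.1.1, y.2.2), y.2.1.2⟩
      left_inv := fun x => rfl
      right_inv := fun y => rfl }
  rw [card_quad_data hB hBd hJ hJd hH C hC, Nat.card_congr e, Nat.card_sigma, Finset.sum_mul,
    Finset.sum_congr rfl fun x _ => card_fiber_zero _, Finset.sum_const, smul_eq_mul,
    Finset.card_univ, ← Nat.card_eq_fintype_card, Nat.card_congr eT]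
  simp only [Nat.card_prod, Matrix, Nat.card_fun, Nat.card_eq_fintype_card (α := r),
    Nat.card_eq_fintype_card (α := w)]
  rw [← pow_mul, mul_comm (Fintype.card r) (Fintype.card w)]
  ring

end Cfsg.Agent.InvCentralizer
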