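import Cfsg.Agent.Lib.InvCentralizer.Symplectic
import Cfsg.Agent.Lib.InvCentralizer.Gauss
import Cfsg.Agent.Lib.Forms.Count
import Cfsg.Agent.Lib.OrthAct.MaxClass

/-!
# Involution centralisers in `O⁺_2m(q)` and `Ω⁺_2m(q)`, `q` even

* `Data x k P B C` : an adapted basis with the quadratic form in block shape
* `card_comm_nonalt`, `card_comm_alt` : the centraliser in the orthogonal group
* `card_omega_half`, `card_omega_full` : passing to `Ω`
-/

set_option autoImplicit false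
set_option linter.unusedSectionVars false

namespace Cfsg.Agent.InvCentralizer

open Matrix Module
open Cfsg.Agent.Orth (IsoGrp)

universe u

variable {F : Type u} [Field F] [CharP F 2] [Finite F] {m : ℕ}

/-- The hyperbolic form. -/
noncomputable abbrev qP (m : ℕ) (F : Type u) [Field F] : QuadraticForm F (Fin m ⊕ Fin m → F) :=
  OrthAct.quadPlus m F

/-- The matrix of an isometry. -/
def mt {ι : Type} [Fintype ι] [DecidableEq ι] {Q : QuadraticForm F (ι → F)} (g : IsoGrp Q) :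
    Matrix ι ι F := ((g : GL ι F) : Matrix ι ι F)

theorem qP_mat (v : Fin m ⊕ Fin m → F) : qP m F v = v ⬝ᵥ (hypMat m F *ᵥ v) := by
  rw [hypMat_quad, show qP m F v = Cfsg.quadFormPlus m F v from congrFun (OrthAct.quadPlus_coe m) v]

theorem mt_quad (g : IsoGrp (qP m F)) (v : Fin m ⊕ Fin m → F) :
    (mt g *ᵥ v) ⬝ᵥ (hypMat m F *ᵥ (mt g *ᵥ v)) = v ⬝ᵥ (hypMat m F *ᵥ v) := by
  rw [← qP_mat, ← qP_mat]
  exact Orth.Q_ap g v

theorem quad_conj {n n' : Type*} [Fintype n] [Fintype n'] (X : Matrix n n' F) (M : Matrix n n F)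
    (v : n' → F) : v ⬝ᵥ ((Xᵀ * M * X) *ᵥ v) = (X *ᵥ v) ⬝ᵥ (M *ᵥ (X *ᵥ v)) := by
  rw [← Matrix.mulVec_mulVec, ← Matrix.mulVec_mulVec, Matrix.dotProduct_mulVec,
    Matrix.vecMul_transpose]

theorem preserves_symp {g : Matrix (Fin m ⊕ Fin m) (Fin m ⊕ Fin m) F}
    (h : ∀ v, (g *ᵥ v) ⬝ᵥ (hypMat m F *ᵥ (g *ᵥ v)) = v ⬝ᵥ (hypMat m F *ᵥ v)) :
    gᵀ * Jm m F * g = Jm m F ∧ ∀ i, (gᵀ * hypMat m F * g) i i = hypMat m F i i := by
  obtain ⟨h1, h2⟩ := quad_eq_iff.1 (fun v => (quad_conj g (hypMat m F) v).trans (h v))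
  refine ⟨?_, h2⟩
  rw [← hypMat_symm m, Matrix.mul_add, Matrix.add_mul]
  refine Eq.trans ?_ h1
  simp only [Matrix.transpose_mul, Matrix.transpose_transpose, Matrix.mul_assoc]

/-- Isometries correspond to their matrices. -/
theorem exists_iso_of_mat {g : Matrix (Fin m ⊕ Fin m) (Fin m ⊕ Fin m) F}
    (h : ∀ v, (g *ᵥ v) ⬝ᵥ (hypMat m F *ᵥ (g *ᵥ v)) = v ⬝ᵥ (hypMat m F *ᵥ v)) :
    ∃ x : IsoGrp (qP m F), mt x = g := by
  have hJ : IsUnit (Jm m F).det := Matrix.isUnit_det_of_right_inverse (B := Jm m F) J_std_symm.2.2.2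
  have hu : IsUnit g.det := by
    rw [← (preserves_symp h).1, Matrix.det_mul] at hJ
    exact isUnit_of_mul_isUnit_right hJ
  refine ⟨⟨((Matrix.isUnit_iff_isUnit_det g).2 hu).unit, fun v _ => ?_⟩, rfl⟩
  show qP m F (g *ᵥ v) = qP m F v
  rw [qP_mat, qP_mat, h]

theorem mt_injective : Function.Injective (mt : IsoGrp (qP m F) → _) := fun _ _ h =>
  Subtype.ext (Units.ext h)

theorem mt_mul (g h : IsoGrp (qP m F)) : mt (g * h) = mt g * mt h := rfl

/-- An adapted basis with block quadratic form. -/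
structure Data (x : IsoGrp (qP m F)) {s k : ℕ} (P : Matrix (Fin m ⊕ Fin m) (AIdx s k) F)
    (P' : Matrix (AIdx s k) (Fin m ⊕ Fin m) F) (B : Matrix (Fin s) (Fin s) F)
    (Hw : Matrix (Fin k ⊕ Fin k) (Fin k ⊕ Fin k) F) (C : Matrix (Fin s) (Fin s) F) : Prop where
  symm : Bᵀ = B
  det : IsUnit B.det
  left_inv : P' * P = 1
  right_inv : P * P' = 1
  gram_eq : Pᵀ * Jm m F * P = gram B (Jm k F)
  nil_eq : (mt x + 1) * P = P * (nil : Matrix (AIdx s k) (AIdx s k) F)
  half_eq : Hw + Hwᵀ = Jm k F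
  c_symm : Cᵀ = C
  quad : ∀ c, (P *ᵥ c) ⬝ᵥ (hypMat m F *ᵥ (P *ᵥ c)) = c ⬝ᵥ (quadMat B Hw C *ᵥ c)

variable {x : IsoGrp (qP m F)}

theorem mt_sq (hx : x ^ 2 = 1) : mt x * mt x = 1 := by
  rw [← mt_mul, ← sq, hx]; rfl

/-- Every symplectic move gives data. -/
theorem exists_data_of_move {s k : ℕ} {x : IsoGrp (qP (s + k) F)} (hx : x ^ 2 = 1)
    {G : Matrix (Fin (s + k) ⊕ Fin (s + k)) (Fin (s + k) ⊕ Fin (s + k)) F}
    (hG : Gᵀ * Jm (s + k) F * G = Jm (s + k) F)
    (hR : Submodule.span F (Set.range fun i => G *ᵥ stdE (s + k) s (Nat.le_add_right s k) F i) =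
      LinearMap.range (mt x + 1).mulVecLin) :
    ∃ P' B Hw C, Data x (adapted (mt x) G) P' B Hw C ∧
      ((∀ i, (Gᵀ * hypMat (s + k) F * G) i i = hypMat (s + k) F i i) → ∀ j, Hw j j = 0) := by
  set A := mt x
  obtain ⟨B, P', hB, hBd, h1, h2, hgram, hN, -⟩ :=
    exists_adapted_of_move (preserves_symp (mt_quad x)).1 (mt_sq hx) hG hR
  set P := adapted A G with hP
  obtain ⟨a11, a12, a13, a21, a22, a23, a31, a32, a33, hH⟩ :=
    exists_bm (Pᵀ * hypMat (s + k) F * P)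
  have hsym : bm a11 a12 a13 a21 a22 a23 a31 a32 a33 + (bm a11 a12 a13 a21 a22 a23 a31 a32 a33)ᵀ =
      gram B (Jm k F) := by
    rw [← hH, ← hgram, ← hypMat_symm, Matrix.mul_add, Matrix.add_mul]
    simp only [Matrix.transpose_mul, Matrix.transpose_transpose, Matrix.mul_assoc]
  rw [bm_transpose, bm_add, gram, bm_inj] at hsym
  obtain ⟨⟨h11, -, h13⟩, ⟨-, h22, -⟩, -, -, h33⟩ := hsym
  have hdB : ∀ i, a11 i i = B i i := by
    intro i
    have hq : ∀ c, ((1 + (nil : Matrix (AIdx s k) (AIdx s k) F)) *ᵥ c) ⬝ᵥ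
        ((Pᵀ * hypMat (s + k) F * P) *ᵥ ((1 + nil) *ᵥ c)) =
          c ⬝ᵥ ((Pᵀ * hypMat (s + k) F * P) *ᵥ c) := fun c => by
      rw [quad_conj, quad_conj]
      have hPA : P *ᵥ ((1 + (nil : Matrix (AIdx s k) (AIdx s k) F)) *ᵥ c) = A *ᵥ (P *ᵥ c) := by
        rw [Matrix.mulVec_mulVec, Matrix.mulVec_mulVec, Matrix.mul_add, Matrix.mul_one, ← hN,
          Matrix.add_mul, Matrix.one_mul, add_left_comm, add_self, add_zero]
      rw [hPA]
      exact mt_quad x _
    have h := (quad_eq_iff.1 fun c => (quad_conj (1 + (nil : Matrix (AIdx s k) (AIdx s k) F)) _ c).trans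
      (hq c)).2 (.inr (.inr i))
    rw [hH, nil, ← bm_one, bm_add, bm_transpose, bm_mul, bm_mul] at h
    simp only [bm, Matrix.of_apply, add_zero, zero_add, Matrix.transpose_one, Matrix.transpose_zero,
      Matrix.mul_one, Matrix.one_mul, Matrix.mul_zero, Matrix.zero_mul, Matrix.add_apply] at h
    have h13i := congrFun (congrFun h13 i) i
    simp only [Matrix.add_apply, Matrix.transpose_apply] at h13i
    have h2' : (2 : F) = 0 := CharTwo.two_eq_zero
    linear_combination h - h13i - (B i i) * h2'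
  refine ⟨P', B, a22, Matrix.diagonal fun i => a33 i i,
    ⟨hB, hBd, h1, h2, hgram, hN, h22, Matrix.diagonal_transpose _, fun c => ?_⟩, fun hd j => ?_⟩
  · rw [← quad_conj, hH]
    refine quad_eq_iff.2 ⟨?_, ?_⟩ c
    · rw [quadMat_symm hB J_std_symm.1 h22 _ (Matrix.diagonal_transpose _), bm_transpose, bm_add,
        gram, bm_inj]
      obtain ⟨⟨k1, k2, k3⟩, ⟨k4, k5, k6⟩, k7, k8, k9⟩ := bm_inj.1 (show
        bm (a11 + a11ᵀ) (a12 + a21ᵀ) (a13 + a31ᵀ) (a21 + a12ᵀ) (a22 + a22ᵀ) (a23 + a32ᵀ)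
          (a31 + a13ᵀ) (a32 + a23ᵀ) (a33 + a33ᵀ) = gram B (Jm k F) by
        rw [← bm_add, ← bm_transpose, ← hH, ← hgram, ← hypMat_symm, Matrix.mul_add, Matrix.add_mul]
        simp only [Matrix.transpose_mul, Matrix.transpose_transpose, Matrix.mul_assoc])
      exact ⟨⟨k1, k2, k3⟩, ⟨k4, k5, k6⟩, k7, k8, k9⟩
    · rintro (i | i | i)
      · exact hdB i
      · rfl
      · exact (Matrix.diagonal_apply_eq _ i).symm
  · rw [show a22 j j = (Pᵀ * hypMat (s + k) F * P) (.inr (.inl j)) (.inr (.inl j)) by rw [hH]; rfl]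
    rcases j with j | j
    · exact (show _ = (Gᵀ * hypMat (s + k) F * G) (.inl (Fin.natAdd s j)) (.inl (Fin.natAdd s j)) from rfl).trans
        ((hd _).trans (by simp [hypMat]))
    · exact (show _ = (Gᵀ * hypMat (s + k) F * G) (.inr (Fin.natAdd s j)) (.inr (Fin.natAdd s j)) from rfl).trans
        ((hd _).trans (by simp [hypMat]))

theorem rank_eq_finrank {s : ℕ} (hs : (mt x - 1).rank = s) :
    finrank F (LinearMap.range (mt x + 1).mulVecLin) = s := by
  rw [← rank_sub_one]; exact hs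

theorem le_of_rank {s : ℕ} (hx : x ^ 2 = 1) (hs : (mt x - 1).rank = s) : s ≤ m := by
  rw [← rank_eq_finrank hs]
  exact le_of_isotropic _ (range_isotropic (preserves_symp (mt_quad x)).1 (mt_sq hx))

/-- Data for any involution. -/
theorem exists_data {s : ℕ} (hx : x ^ 2 = 1) (hs : (mt x - 1).rank = s) :
    ∃ k, m = s + k ∧ ∃ P P' B Hw C, Data (s := s) (k := k) x P P' B Hw C := by
  have hsm := le_of_rank hx hs
  obtain ⟨k, rfl⟩ : ∃ k, m = s + k := ⟨m - s, by omega⟩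
  obtain ⟨G, hG, hR⟩ := exists_sp_move hsm _ (rank_eq_finrank hs)
    (range_isotropic (preserves_symp (mt_quad x)).1 (mt_sq hx))
  obtain ⟨P', B, Hw, C, hd, -⟩ := exists_data_of_move hx hG hR
  exact ⟨k, rfl, _, P', B, Hw, C, hd⟩

/-- Data for an involution with totally singular image. -/
theorem exists_data_singular {s : ℕ} (hx : x ^ 2 = 1) (hs : (mt x - 1).rank = s)
    (hsing : ∀ v, qP m F ((mt x - 1) *ᵥ v) = 0) :
    ∃ k, m = s + k ∧ ∃ P P' B Hw C, Data (s := s) (k := k) x P P' B Hw C ∧ ∀ j, Hw j j = 0 := by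
  have hsm := le_of_rank hx hs
  obtain ⟨k, rfl⟩ : ∃ k, m = s + k := ⟨m - s, by omega⟩
  obtain ⟨G, hG, hq, hR⟩ := exists_orth_move hsm _ (rank_eq_finrank hs) (by
    rintro _ ⟨v, rfl⟩
    rw [← congrFun (OrthAct.quadPlus_coe (F := F) (s + k))]
    have := hsing v
    rw [rank_sub_one] at this
    exact this)
  obtain ⟨P', B, Hw, C, hd, h0⟩ := exists_data_of_move hx hG hR
  exact ⟨k, rfl, _, P', B, Hw, C, hd, h0 hq⟩

section WithData

variable {s k : ℕ} {P : Matrix (Fin m ⊕ Fin m) (AIdx s k) F}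
  {P' : Matrix (AIdx s k) (Fin m ⊕ Fin m) F} {B : Matrix (Fin s) (Fin s) F}
  {Hw : Matrix (Fin k ⊕ Fin k) (Fin k ⊕ Fin k) F} {C : Matrix (Fin s) (Fin s) F}
variable (d : Data x P P' B Hw C)
include d

/-- `Q` on the image of `x - 1`. -/
theorem Data.quad_image (v : Fin m ⊕ Fin m → F) :
    qP m F ((mt x - 1) *ᵥ v) = ∑ i, B i i * (P' *ᵥ v) (.inr (.inr i)) ^ 2 := by
  have hv : (mt x - 1) *ᵥ v = P *ᵥ ((nil : Matrix (AIdx s k) (AIdx s k) F) *ᵥ (P' *ᵥ v)) := by
    rw [rank_sub_one, Matrix.mulVec_mulVec, Matrix.mulVec_mulVec, ← d.nil_eq, Matrix.mul_assoc,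
      d.right_inv, Matrix.mul_one]
  rw [hv, qP_mat, d.quad, ← quad_conj]
  generalize P' *ᵥ v = c
  have h : (nil : Matrix (AIdx s k) (AIdx s k) F)ᵀ * quadMat B Hw C * nil =
      bm 0 0 0 0 0 0 0 0 B := by
    rw [nil, quadMat, bm_transpose, bm_mul, bm_mul, bm_inj]; simp
  rw [h, dotProduct_symm (by rw [bm_transpose]; simp [d.symm])]
  simp [Fintype.sum_sum_type, bm]

theorem Data.alt_iff :
    (∀ v, qP m F ((mt x - 1) *ᵥ v) = 0) ↔ ∀ i, B i i = 0 := by
  constructor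
  · intro h i
    have := h (P *ᵥ Pi.single (.inr (.inr i)) 1)
    rw [d.quad_image, Matrix.mulVec_mulVec, d.left_inv, Matrix.one_mulVec] at this
    rw [Finset.sum_eq_single i (fun j _ hj => by simp [hj]) (by simp)] at this
    simpa using this
  · intro h v
    rw [d.quad_image]
    simp [h]

/-- The centraliser in the orthogonal group in coordinates. -/
noncomputable def Data.equiv :
    {g : IsoGrp (qP m F) // g * x = x * g} ≃ CentSetQ B (Jm k F) Hw C := by
  let E := conjEquiv d.left_inv d.right_inv d.gram_eq d.nil_eq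
  refine Equiv.trans (Equiv.ofBijective
    (fun g => (⟨⟨mt g.1, (preserves_symp (mt_quad g.1)).1,
      by rw [← mt_mul, g.2, mt_mul]⟩, mt_quad g.1⟩ :
      {g : {g : Matrix (Fin m ⊕ Fin m) (Fin m ⊕ Fin m) F //
          gᵀ * Jm m F * g = Jm m F ∧ g * mt x = mt x * g} //
        ∀ v, (g.1 *ᵥ v) ⬝ᵥ (hypMat m F *ᵥ (g.1 *ᵥ v)) = v ⬝ᵥ (hypMat m F *ᵥ v)}))
    ⟨?_, ?_⟩) (Equiv.subtypeEquiv E fun g => ?_)
  · intro g h hgh
    exact Subtype.ext (mt_injective (congrArg (fun z => z.1.1) hgh))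
  · rintro ⟨⟨g, h1, h2⟩, h3⟩
    obtain ⟨y, hy⟩ := exists_iso_of_mat h3
    exact ⟨⟨y, mt_injective (by rw [mt_mul, mt_mul, hy]; exact h2)⟩, Subtype.ext (Subtype.ext hy)⟩
  · have hP : ∀ c, P *ᵥ ((E g).1 *ᵥ c) = g.1 *ᵥ (P *ᵥ c) := fun c => by
      show P *ᵥ ((P' * g.1 * P) *ᵥ c) = _
      rw [Matrix.mulVec_mulVec, Matrix.mulVec_mulVec, ← Matrix.mul_assoc, ← Matrix.mul_assoc,
        d.right_inv, Matrix.one_mul]
    constructor
    · intro h i
      refine (quad_eq_iff.1 fun c => ?_).2 i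
      rw [quad_conj, ← d.quad, ← d.quad, hP, h]
    · intro h v
      have hsym : (E g).1ᵀ * quadMat B Hw C * (E g).1 + ((E g).1ᵀ * quadMat B Hw C * (E g).1)ᵀ =
          quadMat B Hw C + (quadMat B Hw C)ᵀ := by
        simp only [Matrix.transpose_mul, Matrix.transpose_transpose, ← Matrix.mul_assoc]
        rw [← Matrix.add_mul, ← Matrix.mul_add, quadMat_symm d.symm J_std_symm.1 d.half_eq C d.c_symm,
          (E g).2.1]
      have hv : v = P *ᵥ (P' *ᵥ v) := by rw [Matrix.mulVec_mulVec, d.right_inv, Matrix.one_mulVec]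
      rw [hv, ← hP, d.quad, d.quad, ← quad_conj]
      exact quad_eq_iff.2 ⟨hsym, h⟩ _

/-- Non-alternating case. -/
theorem Data.card_comm_nonalt (hne : ∃ i, B i i ≠ 0) :
    Nat.card {g : IsoGrp (qP m F) // g * x = x * g} * Nat.card F ^ (2 * k) * Nat.card F ^ s =
      Nat.card (IsoSet B) * spOrder (Nat.card F) k *
        Nat.card F ^ (2 * k * s) * (2 * Nat.card F ^ (s + 1).choose 2) := by
  have h := card_centSetQ d.symm d.det J_std_symm.1 (J := Jm k F) J_std_symm.2.2.1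
    (Matrix.isUnit_det_of_right_inverse (B := Jm k F) J_std_symm.2.2.2) d.half_eq C d.c_symm hne
  rw [Nat.card_congr d.equiv]
  simpa [card_iso_std, two_mul] using h

/-- Alternating case. -/
theorem Data.card_comm_alt (hz : ∀ i, B i i = 0) (hw : ∀ j, Hw j j = 0) :
    Nat.card {g : IsoGrp (qP m F) // g * x = x * g} * Nat.card F ^ s =
      Nat.card (IsoSet B) * Nat.card (Forms.preservingFun (F := F) (⇑(Forms.qfPlus k F))) *
        Nat.card F ^ (2 * k * s) * Nat.card F ^ (s + 1).choose 2 := by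
  have h := card_centSetQ_alt d.symm d.det J_std_symm.1 (J := Jm k F) J_std_symm.2.2.1
    d.half_eq C d.c_symm hz
  have hH : Hw + Hwᵀ = hypMat k F + (hypMat k F)ᵀ := d.half_eq.trans (hypMat_symm k).symm
  have hdg : ∀ j, Hw j j = hypMat k F j j := fun j => by rw [hw]; rcases j with j | j <;> simp [hypMat]
  have hc : Nat.card {D : IsoSet (Jm k F) // ∀ j, (D.1ᵀ * Hw * D.1) j j = Hw j j} =
      Nat.card (Forms.preservingFun (F := F) (⇑(Forms.qfPlus k F))) := by
    rw [← Nat.card_congr (Forms.isometryGroupEquiv (⇑(Forms.qfPlus k F))).toEquiv]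
    have hq : (⇑(Forms.qfPlus k F) : (Fin k ⊕ Fin k → F) → F) = ⇑(qP k F) := by
      rw [Forms.qfPlus_eq, OrthAct.quadPlus_coe]
    rw [hq]
    symm
    refine Nat.card_congr (Equiv.ofBijective
      (fun y : IsoGrp (qP k F) => (⟨⟨mt y, (preserves_symp (mt_quad y)).1⟩, fun j => ?_⟩ :
        {D : IsoSet (Jm k F) // ∀ j, (D.1ᵀ * Hw * D.1) j j = Hw j j})) ⟨?_, ?_⟩)
    · rw [diag_congr hH hdg (mt y) j, (preserves_symp (mt_quad y)).2 j, hdg]
    · intro g h hgh
      exact mt_injective (congrArg (fun z => z.1.1) hgh)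
    · rintro ⟨⟨D, hD⟩, hdd⟩
      obtain ⟨y, hy⟩ := exists_iso_of_mat (m := k) (g := D) fun v => by
        rw [← quad_conj]
        refine quad_eq_iff.2 ⟨?_, fun j => ?_⟩ v
        · simp only [Matrix.transpose_mul, Matrix.transpose_transpose, ← Matrix.mul_assoc]
          rw [← Matrix.add_mul, ← Matrix.mul_add, hypMat_symm, hD]
        · rw [← diag_congr hH hdg D j, hdd, hdg]
      exact ⟨y, Subtype.ext (Subtype.ext hy)⟩
  rw [Nat.card_congr d.equiv]
  rw [hc] at h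
  simpa [two_mul] using h

/-- An odd element of the centraliser. -/
theorem Data.exists_odd (hG : Orth.Good (qP m F)) (hne : (∃ i, B i i ≠ 0) ∨ 0 < k) :
    ∃ r : IsoGrp (qP m F), r * x = x * r ∧ Orth.dick r = -1 := by
  obtain ⟨c, hc0, hcq⟩ : ∃ c : AIdx s k → F,
      (nil : Matrix (AIdx s k) (AIdx s k) F) *ᵥ c = 0 ∧ c ⬝ᵥ (quadMat B Hw C *ᵥ c) ≠ 0 := by
    rcases hne with ⟨i, hi⟩ | hk
    · refine ⟨Pi.single (.inl i) 1, ?_, ?_⟩
      · funext a; rcases a with a | a | a <;> simp [nil, bm]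
      · simpa [quadMat, bm] using hi
    · let j : Fin k := ⟨0, hk⟩
      by_contra! hall
      have hsingle : ∀ u : Fin k ⊕ Fin k → F,
          Sum.elim (0 : Fin s → F) (Sum.elim u 0) ⬝ᵥ
            (quadMat B Hw C *ᵥ Sum.elim 0 (Sum.elim u 0)) = u ⬝ᵥ (Hw *ᵥ u) := fun u => by
        simp [quadMat, bm, dotProduct, Matrix.mulVec, Fintype.sum_sum_type]
      have hzero : ∀ u : Fin k ⊕ Fin k → F, u ⬝ᵥ (Hw *ᵥ u) = u ⬝ᵥ ((0 : Matrix _ _ F) *ᵥ u) :=
        fun u => by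
          rw [← hsingle, hall _ (by funext a; rcases a with a | a | a <;>
            simp [nil, bm, Matrix.mulVec, dotProduct, Fintype.sum_sum_type])]
          simp
      have h := (quad_eq_iff.1 hzero).1
      rw [d.half_eq, Matrix.transpose_zero, add_zero] at h
      have := congrFun (congrFun h (.inl j)) (.inr j)
      simp [Jm, Matrix.J] at this
  set v := P *ᵥ c
  have hQv : qP m F v ≠ 0 := by rw [qP_mat, d.quad]; exact hcq
  have hxv : Orth.ap x v = v := by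
    show mt x *ᵥ v = v
    have h1 : (mt x + 1) *ᵥ v = 0 := by
      rw [Matrix.mulVec_mulVec, d.nil_eq, ← Matrix.mulVec_mulVec, hc0, Matrix.mulVec_zero]
    funext i
    have := congrFun h1 i
    simp only [Matrix.add_mulVec, Matrix.one_mulVec, Pi.add_apply, Pi.zero_apply] at this
    exact CharTwo.add_eq_zero.1 this
  refine ⟨Orth.refl (qP m F) v, ?_, Orth.dick_refl hG.nd hQv⟩
  rw [Orth.mul_refl, hxv]

end WithData

variable [Fintype F]

theorem mem_omega_two (hG : Orth.Good (qP m F)) (g : IsoGrp (qP m F)) :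
    g ∈ Cfsg.Omega F ⇑(qP m F) ↔ Orth.dick g = 1 := by
  rw [Orth.mem_omega_iff hG]
  exact and_iff_left (Orth.spin_eq_one_of_two hG CharTwo.two_eq_zero g)

/-- Halving. -/
theorem card_omega_half (hG : Orth.Good (qP m F))
    (h : ∃ r : IsoGrp (qP m F), r * x = x * r ∧ Orth.dick r = -1) :
    2 * Nat.card {g : ↥(Cfsg.Omega F ⇑(qP m F)) // (g : IsoGrp (qP m F)) * x = x * g} =
      Nat.card {g : IsoGrp (qP m F) // g * x = x * g} := by
  classical
  obtain ⟨r, hr, hrd⟩ := h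
  have hr' : r⁻¹ * x = x * r⁻¹ := by
    calc r⁻¹ * x = r⁻¹ * (x * r) * r⁻¹ := by group
      _ = x * r⁻¹ := by rw [← hr]; group
  have hrd' : Orth.dick r⁻¹ = -1 := by
    have h1 := Orth.dick_mul hG r r⁻¹
    rw [mul_inv_cancel, Orth.dick_one, hrd] at h1
    omega
  set S := {g : ↥(Cfsg.Omega F ⇑(qP m F)) // (g : IsoGrp (qP m F)) * x = x * g}
  have e : S ⊕ S ≃ {g : IsoGrp (qP m F) // g * x = x * g} :=
    { toFun := fun z => z.elim (fun g => ⟨g.1.1, g.2⟩) fun g => ⟨r * g.1.1, by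
        rw [mul_assoc, g.2, ← mul_assoc, hr, mul_assoc]⟩
      invFun := fun g => if h : Orth.dick g.1 = 1 then .inl ⟨⟨g.1, (mem_omega_two hG _).2 h⟩, g.2⟩
        else .inr ⟨⟨r⁻¹ * g.1, (mem_omega_two hG _).2 (by
          rw [Orth.dick_mul hG, hrd', (Orth.dick_eq_or g.1).resolve_left h]; rfl)⟩, by
            show r⁻¹ * g.1 * x = x * (r⁻¹ * g.1)
            rw [mul_assoc, g.2, ← mul_assoc, hr', mul_assoc]⟩
      left_inv := fun z => by
        rcases z with g | g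
        · simp [(mem_omega_two hG _).1 g.1.2]
        · have : Orth.dick (r * g.1.1) ≠ 1 := by
            rw [Orth.dick_mul hG, hrd, (mem_omega_two hG _).1 g.1.2]; decide
          simp [this]
      right_inv := fun g => by
        by_cases h : Orth.dick g.1 = 1 <;> simp [h] }
  rw [← Nat.card_congr e, Nat.card_sum, two_mul]

/-- A half-dimensional totally singular image: the centraliser lies in `Ω`. -/
theorem card_omega_full (hG : Orth.Good (qP m F)) (hs : (mt x - 1).rank = m)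
    (hsing : ∀ v, qP m F ((mt x - 1) *ᵥ v) = 0) :
    Nat.card {g : ↥(Cfsg.Omega F ⇑(qP m F)) // (g : IsoGrp (qP m F)) * x = x * g} =
      Nat.card {g : IsoGrp (qP m F) // g * x = x * g} := by
  have hmem : ∀ g : IsoGrp (qP m F), g * x = x * g → g ∈ Cfsg.Omega F ⇑(qP m F) := by
    intro g hg
    set U := LinearMap.range (mt x - 1).mulVecLin
    have hU : finrank F U = m := hs
    rw [mem_omega_two hG, OrthAct.dick_eq_parity hG (m := m) (by simp [two_mul]) hU
      (by rintro _ ⟨v, rfl⟩; exact hsing v) g,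
      OrthAct.map_ap_eq_of_mapsTo (g := g) (U := U) (by
        rintro _ ⟨v, rfl⟩
        refine ⟨mt g *ᵥ v, ?_⟩
        show (mt x - 1) *ᵥ (mt g *ᵥ v) = mt g *ᵥ ((mt x - 1) *ᵥ v)
        rw [Matrix.mulVec_mulVec, Matrix.mulVec_mulVec, Matrix.sub_mul, Matrix.mul_sub, Matrix.one_mul,
          Matrix.mul_one, ← mt_mul, ← mt_mul, hg]),
      inf_idem, hU, Nat.sub_self, pow_zero]
  exact Nat.card_congr
    { toFun := fun g => ⟨g.1.1, g.2⟩
      invFun := fun g => ⟨⟨g.1, hmem g.1 g.2⟩, g.2⟩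
      left_inv := fun g => rfl
      right_inv := fun g => rfl }

end Cfsg.Agent.InvCentralizer
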