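import Cfsg.Agent.Lib.InvCentralizer.Adapted

/-!
# Involution centralisers in `Sp_2m(q)`, `q` even

* `conjEquiv` : transport of the centraliser along an adapted basis
* `sq_data` : the matrix facts for an involution of `Sp`
* `card_centralizer_sp` : `|C(t)| = |O(B)| |Sp_2k| q^(2ks) q^(s(s+1)/2)`
-/

set_option autoImplicit false
set_option linter.unusedSectionVars false

namespace Cfsg.Agent.InvCentralizer

open Matrix Module

universe u

variable {F : Type u} [Field F] [CharP F 2] [Finite F]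

section Conj

variable {s k : ℕ} {m : ℕ}
  {A : Matrix (Fin m ⊕ Fin m) (Fin m ⊕ Fin m) F}
  {P : Matrix (Fin m ⊕ Fin m) (AIdx s k) F} {P' : Matrix (AIdx s k) (Fin m ⊕ Fin m) F}
  {B : Matrix (Fin s) (Fin s) F}

theorem comm_add_one_iff {n : Type*} [Fintype n] [DecidableEq n] (g A : Matrix n n F) :
    g * A = A * g ↔ g * (A + 1) = (A + 1) * g := by
  rw [Matrix.mul_add, Matrix.add_mul, Matrix.mul_one, Matrix.one_mul, add_left_inj]

/-- Transport along the adapted basis. -/
def conjEquiv (h1 : P' * P = 1) (h2 : P * P' = 1)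
    (hG : Pᵀ * Jm m F * P = gram B (Jm k F))
    (hN : (A + 1) * P = P * (nil : Matrix (AIdx s k) (AIdx s k) F)) :
    {g : Matrix (Fin m ⊕ Fin m) (Fin m ⊕ Fin m) F // gᵀ * Jm m F * g = Jm m F ∧ g * A = A * g} ≃
      CentSet B (Jm k F) where
  toFun g := ⟨P' * g.1 * P, by
    constructor
    · rw [← hG]
      calc (P' * g.1 * P)ᵀ * (Pᵀ * Jm m F * P) * (P' * g.1 * P)
          = Pᵀ * (g.1ᵀ * ((P * P')ᵀ * Jm m F * (P * P')) * g.1) * P := by
            simp only [Matrix.transpose_mul, Matrix.mul_assoc]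
        _ = Pᵀ * Jm m F * P := by rw [h2, Matrix.transpose_one, Matrix.one_mul, Matrix.mul_one, g.2.1]
    · have hN' : (nil : Matrix (AIdx s k) (AIdx s k) F) = P' * ((A + 1) * P) := by
        rw [hN, ← Matrix.mul_assoc, h1, Matrix.one_mul]
      calc P' * g.1 * P * (nil : Matrix (AIdx s k) (AIdx s k) F) = P' * (g.1 * ((P * P') * (A + 1))) * P := by
            rw [hN']; simp only [Matrix.mul_assoc]
        _ = P' * ((A + 1) * g.1) * P := by rw [h2, Matrix.one_mul, (comm_add_one_iff _ _).1 g.2.2]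
        _ = P' * ((A + 1) * ((P * P') * g.1)) * P := by rw [h2, Matrix.one_mul]
        _ = (nil : Matrix (AIdx s k) (AIdx s k) F) * (P' * g.1 * P) := by rw [hN']; simp only [Matrix.mul_assoc]⟩
  invFun g := ⟨P * g.1 * P', by
    constructor
    · have hJ : Jm m F = P'ᵀ * gram B (Jm k F) * P' := by
        rw [← hG]
        calc Jm m F = (P * P')ᵀ * Jm m F * (P * P') := by
              rw [h2, Matrix.transpose_one, Matrix.one_mul, Matrix.mul_one]
          _ = P'ᵀ * (Pᵀ * Jm m F * P) * P' := by simp only [Matrix.transpose_mul, Matrix.mul_assoc]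
      calc (P * g.1 * P')ᵀ * Jm m F * (P * g.1 * P')
          = P'ᵀ * (g.1ᵀ * (Pᵀ * Jm m F * P) * g.1) * P' := by
            simp only [Matrix.transpose_mul, Matrix.mul_assoc]
        _ = Jm m F := by rw [hG, g.2.1, ← hJ]
    · rw [comm_add_one_iff]
      have hAP : A + 1 = P * (nil : Matrix (AIdx s k) (AIdx s k) F) * P' := by rw [← hN, Matrix.mul_assoc, h2, Matrix.mul_one]
      calc P * g.1 * P' * (A + 1) = P * (g.1 * ((P' * P) * (nil : Matrix (AIdx s k) (AIdx s k) F))) * P' := by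
            rw [hAP]; simp only [Matrix.mul_assoc]
        _ = P * ((nil : Matrix (AIdx s k) (AIdx s k) F) * g.1) * P' := by rw [h1, Matrix.one_mul, g.2.2]
        _ = P * ((nil : Matrix (AIdx s k) (AIdx s k) F) * ((P' * P) * g.1)) * P' := by rw [h1, Matrix.one_mul]
        _ = (A + 1) * (P * g.1 * P') := by rw [hAP]; simp only [Matrix.mul_assoc]⟩
  left_inv g := Subtype.ext (by
    calc P * (P' * g.1 * P) * P' = (P * P') * g.1 * (P * P') := by simp only [Matrix.mul_assoc]
      _ = g.1 := by rw [h2, Matrix.one_mul, Matrix.mul_one])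
  right_inv g := Subtype.ext (by
    calc P' * (P * g.1 * P') * P = (P' * P) * g.1 * (P' * P) := by simp only [Matrix.mul_assoc]
      _ = g.1 := by rw [h1, Matrix.one_mul, Matrix.mul_one])

end Conj

/-- The image of `A + 1` is totally isotropic. -/
theorem range_isotropic {m : ℕ} {A : Matrix (Fin m ⊕ Fin m) (Fin m ⊕ Fin m) F}
    (hA : Aᵀ * Jm m F * A = Jm m F) (hA2 : A * A = 1) :
    ∀ x ∈ LinearMap.range (A + 1).mulVecLin, ∀ y ∈ LinearMap.range (A + 1).mulVecLin,
      GLOrder.sympB m F x y = 0 := by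
  rintro _ ⟨x, rfl⟩ _ ⟨y, rfl⟩
  rw [sympB_eq_dot, Matrix.mulVecLin_apply, Matrix.mulVecLin_apply, Matrix.mulVec_mulVec,
    ← Matrix.vecMul_transpose, ← Matrix.dotProduct_mulVec, Matrix.mulVec_mulVec,
    Matrix.transpose_add, Matrix.transpose_one, ← Matrix.mul_assoc, Matrix.add_mul,
    Matrix.one_mul, Matrix.mul_add, Matrix.mul_one, Matrix.add_mul]
  have hJA : Aᵀ * Jm m F = Jm m F * A := by
    calc Aᵀ * Jm m F = Aᵀ * Jm m F * (A * A) := by rw [hA2, Matrix.mul_one]
      _ = Jm m F * A := by rw [← Matrix.mul_assoc, hA]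
  rw [hA, hJA, show Jm m F + Jm m F * A + (Jm m F * A + Jm m F) =
    (Jm m F + Jm m F) + (Jm m F * A + Jm m F * A) by abel, add_self, add_self, add_zero,
    Matrix.zero_mulVec, dotProduct_zero]

theorem rank_sub_one {n : Type*} [Fintype n] [DecidableEq n] (A : Matrix n n F) :
    A - 1 = A + 1 := by
  ext i j
  rw [Matrix.sub_apply, Matrix.add_apply, CharTwo.sub_eq_add]

/-- The centraliser of an involution in `Sp_2m`, in terms of the form `B`. -/
theorem card_centralizer_sp {m s : ℕ} (t : Matrix.symplecticGroup (Fin m) F) (ht : t ^ 2 = 1)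
    (hs : ((t : Matrix (Fin m ⊕ Fin m) (Fin m ⊕ Fin m) F) - 1).rank = s) :
    ∃ k, m = s + k ∧ ∃ B : Matrix (Fin s) (Fin s) F, Bᵀ = B ∧ IsUnit B.det ∧
      ((∀ i, B i i = 0) ↔ ∀ v : Fin m ⊕ Fin m → F,
        Cfsg.sympForm m F v ((t : Matrix (Fin m ⊕ Fin m) (Fin m ⊕ Fin m) F).mulVec v) = 0) ∧
      Nat.card ↥(Subgroup.centralizer ({t} : Set ↥(Matrix.symplecticGroup (Fin m) F))) =
        Nat.card (IsoSet B) * spOrder (Nat.card F) k *
          Nat.card F ^ (2 * k * s) * Nat.card F ^ (s + 1).choose 2 := by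
  obtain ⟨A, hAmem⟩ := t
  have hA : Aᵀ * Jm m F * A = Jm m F := SymplecticGroup.mem_iff'.1 hAmem
  have hA2 : A * A = 1 := by
    have := congrArg Subtype.val ht
    simpa [sq] using this
  simp only [rank_sub_one] at hs
  have hsm : s ≤ m := by
    rw [← hs]
    exact le_of_isotropic _ (range_isotropic hA hA2)
  obtain ⟨k, rfl⟩ : ∃ k, m = s + k := ⟨m - s, by omega⟩
  obtain ⟨G, hG, hR⟩ := exists_sp_move hsm _ hs (range_isotropic hA hA2)
  obtain ⟨B, P', hB, hBd, h1, h2, hgram, hN, hdiag⟩ := exists_adapted_of_move hA hA2 hG hR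
  refine ⟨k, rfl, B, hB, hBd, ?_, ?_⟩
  · constructor
    · intro hz v
      set P := adapted A G
      have hv : v = P *ᵥ (P' *ᵥ v) := by rw [Matrix.mulVec_mulVec, h2, Matrix.one_mulVec]
      show v ⬝ᵥ (Jm (s + k) F *ᵥ (A *ᵥ v)) = 0
      have hJ : v ⬝ᵥ (Jm (s + k) F *ᵥ v) = 0 := by
        rw [dotProduct_symm J_std_symm.1]
        simp [J_std_symm.2.2.1]
      have hAv : A *ᵥ v = (A + 1) *ᵥ v + v := by
        rw [Matrix.add_mulVec, Matrix.one_mulVec]
        funext i
        simp only [Pi.add_apply, add_assoc, CharTwo.add_self_eq_zero, add_zero]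
      rw [hAv, Matrix.mulVec_add, dotProduct_add, hJ, add_zero, hv]
      generalize P' *ᵥ v = c
      have e1 : (P *ᵥ c) ⬝ᵥ (Jm (s + k) F *ᵥ ((A + 1) *ᵥ (P *ᵥ c))) =
          c ⬝ᵥ ((Pᵀ * Jm (s + k) F * ((A + 1) * P)) *ᵥ c) := by
        simp only [← Matrix.mulVec_mulVec]
        rw [Matrix.dotProduct_mulVec c Pᵀ, Matrix.vecMul_transpose]
      rw [e1, hN, ← Matrix.mul_assoc, hgram]
      have hGN : gram B (Jm k F) * (nil : Matrix (AIdx s k) (AIdx s k) F) = bm 0 0 0 0 0 0 0 0 B := by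
        rw [gram, nil, bm_mul, bm_inj]; simp
      rw [hGN, dotProduct_symm (by rw [bm_transpose]; simp [hB])]
      simp [Fintype.sum_sum_type, bm, hz]
    · intro h i
      rw [hdiag, Matrix.mul_assoc]
      exact (show _ = (G.col (.inr (Fin.castAdd k i))) ⬝ᵥ
        ((Jm (s + k) F * A) *ᵥ G.col (.inr (Fin.castAdd k i))) from rfl).trans
        (by rw [← Matrix.mulVec_mulVec]; exact h _)
  · have e : ↥(Subgroup.centralizer ({⟨A, hAmem⟩} : Set ↥(Matrix.symplecticGroup (Fin (s + k)) F))) ≃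
        {g : Matrix (Fin (s + k) ⊕ Fin (s + k)) (Fin (s + k) ⊕ Fin (s + k)) F //
          gᵀ * Jm (s + k) F * g = Jm (s + k) F ∧ g * A = A * g} :=
      { toFun := fun g => ⟨g.1.1, SymplecticGroup.mem_iff'.1 g.1.2,
          (congrArg Subtype.val (Subgroup.mem_centralizer_singleton_iff.1 g.2))⟩
        invFun := fun g => ⟨⟨g.1, SymplecticGroup.mem_iff'.2 g.2.1⟩,
          Subgroup.mem_centralizer_singleton_iff.2 (Subtype.ext g.2.2)⟩
        left_inv := fun g => rfl
        right_inv := fun g => rfl }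
    rw [Nat.card_congr (e.trans (conjEquiv h1 h2 hgram hN)),
      card_centSet hB hBd J_std_symm.1 J_std_symm.2.2.1, card_iso_std]
    simp [two_mul]

end Cfsg.Agent.InvCentralizer
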